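import Cfsg.Agent.H5.Eight.Char
import Cfsg.Agent.H5.Burnside
import Cfsg.Agent.H31.FourComm

/-!
# Automisers of elementary abelian Sylow subgroups of order eight in simple groups
-/

set_option autoImplicit false
set_option linter.style.haveILetI false

open Cfsg
open scoped IsMulCommutative

namespace H5.Eight

universe u

variable {G : Type u} [Group G] [Finite G]

/-- A nonabelian simple group has no element of a commutative Sylow subgroup fixed by the
normaliser. -/
theorem eq_one_of_normalizer_fixed [IsSimpleGroup G] (hG : ¬ IsMulCommutative G) (S : Sylow 2 G)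
    [IsMulCommutative (S : Subgroup G)] {z : G} (hz : z ∈ (S : Subgroup G)) (hz2 : z ^ 2 = 1)
    (hfix : ∀ n ∈ Subgroup.normalizer ((S : Subgroup G) : Set G), n * z * n⁻¹ = z) : z = 1 := by
  haveI : Fact (Nat.Prime 2) := ⟨Nat.prime_two⟩
  set φ : (S : Subgroup G) →* (S : Subgroup G) := MonoidHom.id _ with hφ
  set τ : G →* (S : Subgroup G) := MonoidHom.transfer φ with hτ
  have hker : τ.ker = ⊤ := ((inferInstance : τ.ker.Normal).eq_bot_or_eq_top).resolve_left fun h =>
    hG ⟨⟨fun a b => (MonoidHom.ker_eq_bot_iff τ).1 h (by rw [map_mul, map_mul, mul_comm])⟩⟩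
  have key : ∀ (k : ℕ) (g₀ : G), g₀⁻¹ * z ^ k * g₀ ∈ (S : Subgroup G) →
      g₀⁻¹ * z ^ k * g₀ = z ^ k := by
    intro k g₀ hmem
    obtain ⟨n, hn, he⟩ := H5.control_of_commutative S (z ^ k) (Subgroup.pow_mem _ hz k) g₀⁻¹
      (by rw [inv_inv]; exact hmem)
    rw [inv_inv, ← conj_pow, hfix n hn] at he
    exact he.symm
  have hz1 : τ z = 1 := MonoidHom.mem_ker.1 (hker ▸ Subgroup.mem_top z)
  rw [hτ, MonoidHom.transfer_eq_pow φ z key] at hz1
  have hidx : z ^ (S : Subgroup G).index = 1 := congrArg Subtype.val hz1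
  have hodd : Nat.Coprime 2 (S : Subgroup G).index :=
    (Nat.Prime.coprime_iff_not_dvd Nat.prime_two).2 S.not_dvd_index
  exact orderOf_eq_one_iff.1 (Nat.eq_one_of_dvd_coprimes hodd (orderOf_dvd_of_pow_eq_one hz2)
    (orderOf_dvd_of_pow_eq_one hidx))

/-- The automorphism group of an elementary abelian group of order eight. -/
theorem card_mulAut_dvd {M : Type u} [CommGroup M] [Finite M] (hexp : ∀ m : M, m * m = 1)
    (h8 : Nat.card M = 8) : Nat.card (MulAut M) ∣ 168 := by
  haveI : Fact (Nat.Prime 2) := ⟨Nat.prime_two⟩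
  have hd : Nat.card M = 2 ^ 3 := by rw [h8]; norm_num
  refine (Cfsg.Agent.H29.card_automorphisms_dvd hd (r := 3)
    (by rw [H31.FourComm.frattini_eq_bot hexp, Subgroup.index_bot, hd])).trans ?_
  decide

variable (S : Sylow 2 G)

/-- The automiser has order 7 or 21, and in the latter case all involutions of the Sylow
subgroup are conjugate in its normaliser. -/
theorem automizer_cases [IsSimpleGroup G] (hG : ¬ IsMulCommutative G)
    (hS : IsElementaryAbelian 2 (S : Subgroup G)) (h8 : Nat.card (S : Subgroup G) = 8) :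
    (Subgroup.centralizer ((S : Subgroup G) : Set G)).relIndex
        (Subgroup.normalizer ((S : Subgroup G) : Set G)) = 7 ∨
      ((Subgroup.centralizer ((S : Subgroup G) : Set G)).relIndex
        (Subgroup.normalizer ((S : Subgroup G) : Set G)) = 21 ∧
      ∀ a ∈ (S : Subgroup G), a ≠ 1 → ∀ b ∈ (S : Subgroup G), b ≠ 1 →
        ∃ n ∈ Subgroup.normalizer ((S : Subgroup G) : Set G), n * a * n⁻¹ = b) := by
  classical
  haveI : Fact (Nat.Prime 2) := ⟨Nat.prime_two⟩
  haveI := hS.1
  set φ := (S : Subgroup G).normalizerMonoidHom with hφ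
  set H := φ.range with hH
  have hφ_apply : ∀ (n : Subgroup.normalizer ((S : Subgroup G) : Set G)) (x : (S : Subgroup G)),
      ((φ n x : (S : Subgroup G)) : G) = n * x * (n : G)⁻¹ := fun n x => rfl
  have hn : (Subgroup.centralizer ((S : Subgroup G) : Set G)).relIndex
      (Subgroup.normalizer ((S : Subgroup G) : Set G)) = Nat.card H := by
    rw [hH, ← Subgroup.index_ker, hφ, Subgroup.normalizerMonoidHom_ker]
    rfl
  have hexp : ∀ m : (S : Subgroup G), m * m = 1 := fun m =>
    Subtype.ext (by rw [Subgroup.coe_mul, ← pow_two]; exact hS.2 m m.2)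
  have h168 : Nat.card H ∣ 168 :=
    (Subgroup.card_subgroup_dvd_card H).trans (card_mulAut_dvd hexp h8)
  have hodd : Nat.Coprime (Nat.card H) 8 := by
    have h1 : Nat.card H ∣ (S : Subgroup G).index := by
      rw [← hn]
      refine (Subgroup.relIndex_dvd_of_le_left _ ?_).trans
        (Subgroup.relIndex_dvd_index_of_le Subgroup.le_normalizer)
      intro x hx w hw
      exact congrArg Subtype.val (mul_comm (⟨w, hw⟩ : (S : Subgroup G)) ⟨x, hx⟩)
    have h2 : ¬ 2 ∣ Nat.card H := fun h => S.not_dvd_index (h.trans h1)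
    rw [show (8 : ℕ) = 2 ^ 3 by norm_num]
    exact ((Nat.Prime.coprime_iff_not_dvd Nat.prime_two).2 h2).symm.pow_right 3
  have h21 : Nat.card H ∣ 21 := hodd.dvd_of_dvd_mul_left (by norm_num; exact h168)
  have hnofix : ∀ x : (S : Subgroup G), (∀ f ∈ H, f x = x) → x = 1 := by
    intro x hx
    apply Subtype.ext
    refine eq_one_of_normalizer_fixed hG S x.2 (hS.2 x x.2) fun n hn' => ?_
    exact congrArg Subtype.val (hx (φ ⟨n, hn'⟩) ⟨_, rfl⟩)
  have hmem : Nat.card H ∈ Nat.divisors 21 := Nat.mem_divisors.2 ⟨h21, by norm_num⟩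
  rw [show Nat.divisors 21 = {1, 3, 7, 21} by decide] at hmem
  simp only [Finset.mem_insert, Finset.mem_singleton] at hmem
  have h13 : ¬ IsPGroup 3 H := by
    intro hp
    haveI : Fact (Nat.Prime 3) := ⟨Nat.prime_three⟩
    have h := hp.card_modEq_card_fixedPoints (S : Subgroup G)
    have h1 : MulAction.fixedPoints H (S : Subgroup G) = {1} := by
      ext x
      constructor
      · intro hx
        exact hnofix x fun f hf => hx ⟨f, hf⟩
      · rintro rfl f
        exact map_one (f : MulAut (S : Subgroup G))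
    rw [h1, h8, Nat.card_unique] at h
    exact absurd h (by decide)
  rcases hmem with h | h | h | h
  · exact absurd (IsPGroup.of_card (n := 0) (by rw [h]; norm_num)) h13
  · exact absurd (IsPGroup.of_card (n := 1) (by rw [h]; norm_num)) h13
  · exact Or.inl (hn.trans h)
  refine Or.inr ⟨hn.trans h, ?_⟩
  haveI : Fact (Nat.Prime 7) := ⟨by norm_num⟩
  obtain ⟨f, hf⟩ := exists_prime_orderOf_dvd_card' (G := H) 7 (by rw [h]; norm_num)
  set P := Subgroup.zpowers (f : MulAut (S : Subgroup G)) with hP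
  have hPc : Nat.card P = 7 := by rw [hP, Nat.card_zpowers, Subgroup.orderOf_coe, hf]
  have hPp : IsPGroup 7 P := IsPGroup.of_card (n := 1) (by rw [hPc, pow_one])
  set F : Subgroup (S : Subgroup G) :=
    { carrier := MulAction.fixedPoints P (S : Subgroup G)
      one_mem' := fun g => map_one (g : MulAut (S : Subgroup G))
      mul_mem' := fun {a b} ha hb g => by
        show (g : MulAut (S : Subgroup G)) (a * b) = a * b
        rw [map_mul, show (g : MulAut (S : Subgroup G)) a = a from ha g,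
          show (g : MulAut (S : Subgroup G)) b = b from hb g]
      inv_mem' := fun {a} ha g => by
        show (g : MulAut (S : Subgroup G)) a⁻¹ = a⁻¹
        rw [map_inv, show (g : MulAut (S : Subgroup G)) a = a from ha g] } with hF
  have hFbot : F = ⊥ := by
    have h1 : 8 ≡ Nat.card F [MOD 7] := h8 ▸ hPp.card_modEq_card_fixedPoints (S : Subgroup G)
    have h2 : Nat.card F ∈ Nat.divisors 8 :=
      Nat.mem_divisors.2 ⟨h8 ▸ Subgroup.card_subgroup_dvd_card F, by norm_num⟩
    rw [show Nat.divisors 8 = {1, 2, 4, 8} by decide] at h2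
    simp only [Finset.mem_insert, Finset.mem_singleton] at h2
    rcases h2 with h2 | h2 | h2 | h2
    · exact Subgroup.eq_bot_of_card_eq _ h2
    · rw [h2] at h1; exact absurd h1 (by decide)
    · rw [h2] at h1; exact absurd h1 (by decide)
    · exfalso
      have htop : F = ⊤ := Subgroup.eq_top_of_card_eq _ (h2.trans h8.symm)
      have h1' : (f : MulAut (S : Subgroup G)) = 1 := MulEquiv.ext fun x =>
        (show x ∈ F from htop ▸ Subgroup.mem_top x) ⟨_, Subgroup.mem_zpowers _⟩
      rw [← Subgroup.orderOf_coe, h1', orderOf_one] at hf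
      norm_num at hf
  intro a ha ha1 b hb hb1
  set a' : (S : Subgroup G) := ⟨a, ha⟩ with ha'
  have hne : a' ≠ 1 := fun e => ha1 (congrArg Subtype.val e)
  haveI := Fintype.ofFinite (MulAction.orbit P a')
  have hsub : MulAction.orbit P a' ⊆ ({1}ᶜ : Set (S : Subgroup G)) := by
    rintro x ⟨g, rfl⟩ (hx : (g : MulAut (S : Subgroup G)) a' = 1)
    exact hne ((map_eq_one_iff _ (MulEquiv.injective _)).1 hx)
  have hc7 : Set.ncard ({1}ᶜ : Set (S : Subgroup G)) = 7 := by
    rw [Set.ncard_compl, h8, Set.ncard_singleton]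
  have horb : (MulAction.orbit P a').ncard = 7 := by
    obtain ⟨j, hj⟩ := hPp.card_orbit a'
    rw [Nat.card_coe_set_eq] at hj
    rcases j with _ | j
    · exfalso
      rw [pow_zero, Set.ncard_eq_one] at hj
      obtain ⟨x, hx⟩ := hj
      have : a' ∈ F := fun g => by
        have h1 : g • a' ∈ MulAction.orbit P a' := MulAction.mem_orbit _ _
        have h2 : a' ∈ MulAction.orbit P a' := MulAction.mem_orbit_self _
        rw [hx] at h1 h2
        rw [h1, h2]
      exact hne (Subgroup.mem_bot.1 (hFbot ▸ this))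
    · have hle := Set.ncard_le_ncard hsub (Set.toFinite _)
      rw [hc7, hj] at hle
      rcases j with _ | j
      · simpa using hj
      · exfalso
        have : 7 ^ 2 ≤ 7 ^ (j + 1 + 1) := Nat.pow_le_pow_right (by norm_num) (by omega)
        omega
  have hall : MulAction.orbit P a' = ({1}ᶜ : Set (S : Subgroup G)) :=
    Set.eq_of_subset_of_ncard_le hsub (by rw [hc7, horb]) (Set.toFinite _)
  obtain ⟨⟨g, hg⟩, hgb⟩ : (⟨b, hb⟩ : (S : Subgroup G)) ∈ MulAction.orbit P a' := by
    rw [hall]; exact fun e => hb1 (congrArg Subtype.val e)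
  obtain ⟨n, rfl⟩ : g ∈ H := (Subgroup.zpowers_le.2 f.2) hg
  exact ⟨n, n.2, congrArg Subtype.val hgb⟩

/-- The centraliser of a transitively permuted involution has an automiser of order three. -/
theorem relIndex_stabilizer (h8 : Nat.card (S : Subgroup G) = 8) [IsMulCommutative (S : Subgroup G)]
    (h21 : (Subgroup.centralizer ((S : Subgroup G) : Set G)).relIndex
        (Subgroup.normalizer ((S : Subgroup G) : Set G)) = 21)
    (htrans : ∀ a ∈ (S : Subgroup G), a ≠ 1 → ∀ b ∈ (S : Subgroup G), b ≠ 1 →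
        ∃ n ∈ Subgroup.normalizer ((S : Subgroup G) : Set G), n * a * n⁻¹ = b)
    {t : G} (ht : t ∈ (S : Subgroup G)) (ht1 : t ≠ 1) :
    (Subgroup.centralizer ((S : Subgroup G) : Set G)).relIndex
      (Subgroup.normalizer ((S : Subgroup G) : Set G) ⊓ Subgroup.centralizer ({t} : Set G)) = 3 := by
  set N := Subgroup.normalizer ((S : Subgroup G) : Set G) with hN
  set C := Subgroup.centralizer ((S : Subgroup G) : Set G) with hC
  set T := N ⊓ Subgroup.centralizer ({t} : Set G) with hT
  letI act : MulAction N (S : Subgroup G) := MulAction.compHom _ (S : Subgroup G).normalizerMonoidHom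
  have hsm : ∀ (n : N) (x : (S : Subgroup G)), ((n • x : (S : Subgroup G)) : G) = n * x * (n : G)⁻¹ :=
    fun n x => rfl
  have hstab : MulAction.stabilizer N (⟨t, ht⟩ : (S : Subgroup G)) = T.subgroupOf N := by
    ext n
    simp only [MulAction.mem_stabilizer_iff, Subgroup.mem_subgroupOf, hT, Subgroup.mem_inf, n.2,
      true_and, Subgroup.mem_centralizer_singleton_iff, Subtype.ext_iff, hsm]
    exact mul_inv_eq_iff_eq_mul
  have horb : MulAction.orbit N (⟨t, ht⟩ : (S : Subgroup G)) = ({1}ᶜ : Set (S : Subgroup G)) := by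
    ext x
    constructor
    · rintro ⟨n, rfl⟩ hx
      apply ht1
      have h := congrArg Subtype.val hx
      simp only [hsm, OneMemClass.coe_one, conj_eq_one_iff] at h
      exact h
    · intro hx
      obtain ⟨n, hn, he⟩ := htrans t ht ht1 x x.2 (fun e => hx (Subtype.ext e))
      exact ⟨⟨n, hn⟩, Subtype.ext he⟩
  have h7 : (T.subgroupOf N).index = 7 := by
    rw [← hstab, MulAction.index_stabilizer, horb, Set.ncard_compl, h8, Set.ncard_singleton]
  have hle : C.subgroupOf N ≤ T.subgroupOf N := fun n hn => by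
    rw [Subgroup.mem_subgroupOf] at hn ⊢
    exact ⟨n.2, Subgroup.mem_centralizer_singleton_iff.2 (hn t ht).symm⟩
  have h := Subgroup.relIndex_mul_index hle
  rw [h7, Subgroup.relIndex_subgroupOf (inf_le_left : T ≤ N)] at h
  have h' : C.relIndex T * 7 = 21 := h.trans h21
  omega

/-- No simple group with solvable involution centralisers has automiser of order 21. -/
theorem automizer_ne_twentyone [IsSimpleGroup G]
    (hS : IsElementaryAbelian 2 (S : Subgroup G)) (h8 : Nat.card (S : Subgroup G) = 8)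
    (hsolv : ∀ t : G, orderOf t = 2 → Group.IsSolvable ↥(Subgroup.centralizer ({t} : Set G)))
    (htrans : ∀ a ∈ (S : Subgroup G), a ≠ 1 → ∀ b ∈ (S : Subgroup G), b ≠ 1 →
        ∃ n ∈ Subgroup.normalizer ((S : Subgroup G) : Set G), n * a * n⁻¹ = b) :
    (Subgroup.centralizer ((S : Subgroup G) : Set G)).relIndex
        (Subgroup.normalizer ((S : Subgroup G) : Set G)) ≠ 21 := by
  classical
  intro h21
  haveI := Fintype.ofFinite G
  haveI : Fact (Nat.Prime 2) := ⟨Nat.prime_two⟩
  haveI := hS.1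
  obtain ⟨t, ht, ht1⟩ : ∃ t ∈ (S : Subgroup G), t ≠ 1 := by
    refine (Subgroup.bot_or_exists_ne_one _).resolve_left fun h => ?_
    rw [h, Subgroup.card_bot] at h8
    norm_num at h8
  have ht2 : orderOf t = 2 := orderOf_eq_prime (hS.2 t ht) ht1
  haveI := hsolv t ht2
  set C := Subgroup.centralizer ({t} : Set G) with hC
  set T := Subgroup.normalizer ((S : Subgroup G) : Set G) ⊓ C with hT
  have hSC : (S : Subgroup G) ≤ C := fun x hx => Subgroup.mem_centralizer_singleton_iff.2
    (congrArg Subtype.val (mul_comm (⟨x, hx⟩ : (S : Subgroup G)) ⟨t, ht⟩))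
  set Sc : Sylow 2 C := S.subtype hSC with hSc
  have hScmem : ∀ {c : C}, c ∈ (Sc : Subgroup C) ↔ (c : G) ∈ (S : Subgroup G) := fun {c} => Iff.rfl
  set O := pPrimeCore 2 ↥C with hO
  set π := QuotientGroup.mk' O with hπ
  have hSO : ∀ c ∈ (Sc : Subgroup C), c ∈ O → c = 1 := by
    intro c hc hcO
    refine orderOf_eq_one_iff.1 (Nat.eq_one_of_dvd_coprimes (H1.card_pPrimeCore_coprime 2 ↥C).symm ?_ ?_)
    · exact orderOf_dvd_of_pow_eq_one (Subtype.ext (hS.2 c (hScmem.1 hc)))
    · exact (Subgroup.orderOf_coe (⟨c, hcO⟩ : O)).symm ▸ orderOf_dvd_natCard _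
  set S0 : Sylow 2 (↥C ⧸ O) := Sc.mapSurjective (QuotientGroup.mk'_surjective O) with hS0
  have hS0coe : (S0 : Subgroup (↥C ⧸ O)) = (Sc : Subgroup C).map π := rfl
  have hS0mem : ∀ {q : ↥C ⧸ O}, q ∈ (S0 : Subgroup (↥C ⧸ O)) →
      ∃ c ∈ (Sc : Subgroup C), π c = q := fun {q} hq => hq
  have hcard : Nat.card (S0 : Subgroup (↥C ⧸ O)) = 8 := by
    have hinj : Function.Injective (π.comp (Sc : Subgroup C).subtype) := by
      rw [← MonoidHom.ker_eq_bot_iff, eq_bot_iff]
      intro c hc
      exact Subtype.ext (hSO c c.2 ((QuotientGroup.eq_one_iff _).1 hc))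
    rw [hS0coe, show (Sc : Subgroup C).map π = (π.comp (Sc : Subgroup C).subtype).range by
      rw [MonoidHom.range_comp, Subgroup.range_subtype],
      ← Nat.card_congr (MonoidHom.ofInjective hinj).toEquiv, ← h8]
    exact Nat.card_congr (Subgroup.subgroupOfEquivOfLe hSC).toEquiv
  have hinv : ∀ q ∈ (S0 : Subgroup (↥C ⧸ O)), q * q = 1 := by
    intro q hq
    obtain ⟨c, hc, rfl⟩ := hS0mem hq
    rw [← map_mul, show c * c = 1 from Subtype.ext (by
      rw [Subgroup.coe_mul, ← pow_two]; exact hS.2 c (hScmem.1 hc)), map_one]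
  have hcomm : ∀ p ∈ (S0 : Subgroup (↥C ⧸ O)), ∀ q ∈ (S0 : Subgroup (↥C ⧸ O)), p * q = q * p := by
    intro p hp q hq
    obtain ⟨a, ha, rfl⟩ := hS0mem hp
    obtain ⟨b, hb, rfl⟩ := hS0mem hq
    rw [← map_mul, ← map_mul]
    refine congrArg π (Subtype.ext ?_)
    have hh := congrArg Subtype.val
      (mul_comm (⟨_, hScmem.1 ha⟩ : (S : Subgroup G)) ⟨_, hScmem.1 hb⟩)
    exact hh
  -- Hall-Higman
  have hps : IsPSolvable 2 (↥C ⧸ O) := H10.isPSolvable_quotient H10.isPSolvable_of_isSolvable _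
  have hHH := H10.centralizer_pCore_le hps H10.pPrimeCore_quotient_pPrimeCore
  have hcore : pCore 2 (↥C ⧸ O) = (S0 : Subgroup (↥C ⧸ O)) := le_antisymm (H1.pCore_le_sylow S0)
    fun q hq => hHH (Subgroup.mem_centralizer_iff.2 fun p hp =>
      hcomm p (H1.pCore_le_sylow S0 hp) q hq)
  haveI hS0n : (S0 : Subgroup (↥C ⧸ O)).Normal := hcore ▸ (inferInstance : (pCore 2 (↥C ⧸ O)).Normal)
  have hself : Subgroup.centralizer ((S0 : Subgroup (↥C ⧸ O)) : Set (↥C ⧸ O)) ≤ S0 := hcore ▸ hHH
  -- the index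
  set L := (S0 : Subgroup (↥C ⧸ O)).comap π with hL
  haveI : L.Normal := hS0n.comap π
  have hLle : (Sc : Subgroup C) ≤ L := fun c hc => Subgroup.mem_map_of_mem π hc
  have hsurj : ∀ q : ↥C ⧸ O, ∃ c : C, (c : G) ∈ T ∧ π c * q⁻¹ ∈ (S0 : Subgroup (↥C ⧸ O)) := by
    intro q
    obtain ⟨c, rfl⟩ := QuotientGroup.mk'_surjective O q
    have h := Sylow.normalizer_sup_eq_top' Sc hLle
    obtain ⟨n, hn, l, hl, rfl⟩ := Subgroup.mem_sup_of_normal_right.1 (h ▸ Subgroup.mem_top c)
    refine ⟨n, ⟨?_, n.2⟩, ?_⟩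
    · refine Subgroup.mem_normalizer_iff.2 fun x => ⟨fun hx => ?_, fun hx => ?_⟩
      · exact (Subgroup.mem_normalizer_iff.1 hn ⟨x, hSC hx⟩).1 hx
      · have hxC : x ∈ C := by
          have h' := C.mul_mem (C.mul_mem (C.inv_mem n.2) (hSC hx)) n.2
          simpa [mul_assoc] using h'
        exact (Subgroup.mem_normalizer_iff.1 hn ⟨x, hxC⟩).2 hx
    · rw [map_mul, mul_inv_rev, ← mul_assoc]
      exact hS0n.conj_mem _ (Subgroup.inv_mem _ hl) _
  let ψ : T →* (↥C ⧸ O) ⧸ (S0 : Subgroup (↥C ⧸ O)) :=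
    (QuotientGroup.mk' _).comp (π.comp (Subgroup.inclusion (inf_le_right : T ≤ C)))
  have hψ : Function.Surjective ψ := by
    intro r
    obtain ⟨q, rfl⟩ := QuotientGroup.mk'_surjective _ r
    obtain ⟨c, hc, hc'⟩ := hsurj q
    refine ⟨⟨c, hc⟩, ?_⟩
    show QuotientGroup.mk' _ (π c) = QuotientGroup.mk' _ q
    rw [← mul_inv_eq_one, ← map_inv, ← map_mul]
    exact (QuotientGroup.eq_one_iff _).2 hc'
  have hker : ψ.ker = (Subgroup.centralizer ((S : Subgroup G) : Set G)).subgroupOf T := by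
    ext g
    rw [MonoidHom.mem_ker, Subgroup.mem_subgroupOf]
    show QuotientGroup.mk' _ (π (Subgroup.inclusion (inf_le_right : T ≤ C) g)) = 1 ↔ _
    rw [QuotientGroup.mk'_apply, QuotientGroup.eq_one_iff]
    constructor
    · intro hg
      obtain ⟨s, hs, hse⟩ := hS0mem hg
      set o : C := s⁻¹ * Subgroup.inclusion (inf_le_right : T ≤ C) g with ho
      have hoO : o ∈ O := QuotientGroup.eq.1 hse
      have hoN : (o : G) ∈ Subgroup.normalizer ((S : Subgroup G) : Set G) :=
        Subgroup.mul_mem _ (Subgroup.inv_mem _ (Subgroup.le_normalizer (hScmem.1 hs))) g.2.1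
      have hocen : (o : G) ∈ Subgroup.centralizer ((S : Subgroup G) : Set G) := by
        intro x hx
        have h1 : (o : G) * x * (o : G)⁻¹ ∈ (S : Subgroup G) :=
          (Subgroup.mem_normalizer_iff.1 hoN x).1 hx
        set w : C := o * ⟨x, hSC hx⟩ * o⁻¹ * (⟨x, hSC hx⟩)⁻¹ with hw
        have hwS : w ∈ (Sc : Subgroup C) :=
          hScmem.2 (Subgroup.mul_mem _ h1 (Subgroup.inv_mem _ hx))
        have hwO : w ∈ O := by
          rw [hw, mul_assoc, mul_assoc]
          exact Subgroup.mul_mem _ hoO (by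
            rw [← mul_assoc]
            exact (H1.pPrimeCore_normal' 2 ↥C).conj_mem _ (Subgroup.inv_mem _ hoO) _)
        have h2 : (o : G) * x * (o : G)⁻¹ * x⁻¹ = 1 := congrArg Subtype.val (hSO w hwS hwO)
        rw [mul_inv_eq_one, mul_inv_eq_iff_eq_mul] at h2
        exact h2.symm
      have hsC : (s : G) ∈ Subgroup.centralizer ((S : Subgroup G) : Set G) := fun x hx =>
        congrArg Subtype.val (mul_comm (⟨x, hx⟩ : (S : Subgroup G)) ⟨_, hScmem.1 hs⟩)
      have hgo : (g : G) = (s : G) * (o : G) := by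
        rw [ho, Subgroup.coe_mul, Subgroup.coe_inv, mul_inv_cancel_left]
        rfl
      rw [hgo]
      exact Subgroup.mul_mem _ hsC hocen
    · intro hg
      refine hself (Subgroup.mem_centralizer_iff.2 fun q hq => ?_)
      obtain ⟨c, hc, rfl⟩ := hS0mem hq
      rw [← map_mul, ← map_mul]
      congr 1
      exact Subtype.ext (hg c (hScmem.1 hc))
  have hidx : (S0 : Subgroup (↥C ⧸ O)).index = 3 := by
    have h3 := relIndex_stabilizer S h8 h21 htrans ht ht1
    have h := Subgroup.index_ker ψ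
    rw [hker, MonoidHom.range_eq_top.2 hψ, Subgroup.card_top,
      show ((Subgroup.centralizer ((S : Subgroup G) : Set G)).subgroupOf T).index = 3 from h3,
      ← Subgroup.index_eq_card] at h
    exact h.symm
  -- the frame
  have htS : π ⟨t, mem_cen t⟩ ∈ (S0 : Subgroup (↥C ⧸ O)) :=
    Subgroup.mem_map_of_mem π (hScmem.2 ht)
  have htne : π ⟨t, mem_cen t⟩ ≠ 1 := fun h =>
    ht1 (congrArg Subtype.val (hSO ⟨t, mem_cen t⟩ (hScmem.2 ht) ((QuotientGroup.eq_one_iff _).1 h)))
  have htc : ∀ q : ↥C ⧸ O, q * π ⟨t, mem_cen t⟩ = π ⟨t, mem_cen t⟩ * q := by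
    intro q
    obtain ⟨c, rfl⟩ := QuotientGroup.mk'_surjective O q
    rw [← map_mul, ← map_mul]
    congr 1
    exact Subtype.ext (Subgroup.mem_centralizer_singleton_iff.1 c.2)
  obtain ⟨fr⟩ := exists_frame (S0 : Subgroup (↥C ⧸ O)) hcard hinv hidx hself htS htne htc
  exact Setting.false_of_simple ⟨ht2, fr⟩ (hsolv t ht2) (S : Subgroup G) h8 fun s hs hs1 => by
    obtain ⟨n, -, hn⟩ := htrans t ht ht1 s hs hs1
    exact isConj_iff.2 ⟨n, hn⟩

end H5.Eight
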