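import Cfsg.Agent.H5.Eight.Frame
import Cfsg.Agent.H20.BlockApps
import Cfsg.Agent.H20.Knorr
import Cfsg.Agent.H12.Monomial
import Cfsg.Agent.H12.Products

/-!
# Virtual characters at an involution with centraliser `(2 × A₄)` modulo the odd core
-/

set_option autoImplicit false
set_option linter.style.haveILetI false
set_option linter.unusedSectionVars false

open Cfsg
open scoped ComplexConjugate

namespace H5.Eight

universe u

noncomputable instance instCoreNormal {G : Type u} [Group G] [Finite G] :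
    (pPrimeCore 2 G).Normal := H1.pPrimeCore_normal' 2 G

variable {G : Type u} [Group G] [Fintype G] {t : G}

/-- The centraliser of `t` modulo its odd core. -/
abbrev Quo (t : G) : Type u :=
  ↥(Subgroup.centralizer ({t} : Set G)) ⧸ pPrimeCore 2 ↥(Subgroup.centralizer ({t} : Set G))

theorem mem_cen (t : G) : t ∈ Subgroup.centralizer ({t} : Set G) :=
  Subgroup.mem_centralizer_singleton_iff.2 rfl

/-- The image of `t`. -/
abbrev tq (t : G) : Quo t :=
  ((⟨t, mem_cen t⟩ : Subgroup.centralizer ({t} : Set G)) : Quo t)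

/-- An involution with a frame on its centraliser modulo the odd core. -/
structure Setting (t : G) where
  ht : orderOf t = 2
  fr : Frame (Quo t) (tq t)

variable (D : Setting t)

/-- The preimage of the frame subgroup in the centraliser. -/
def Setting.kC : Subgroup ↥(Subgroup.centralizer ({t} : Set G)) :=
  D.fr.K.comap (QuotientGroup.mk' _)

/-- The preimage of the frame subgroup in the group. -/
def Setting.kG : Subgroup G := D.kC.map (Subgroup.centralizer ({t} : Set G)).subtype

theorem Setting.kG_le : D.kG ≤ Subgroup.centralizer ({t} : Set G) := Subgroup.map_subtype_le _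

/-- The map to the quotient. -/
noncomputable def Setting.r : D.kG →* Quo t :=
  (QuotientGroup.mk' _).comp (Subgroup.inclusion D.kG_le)

theorem Setting.mem_kG {g : G} :
    g ∈ D.kG ↔ ∃ h : g ∈ Subgroup.centralizer ({t} : Set G),
      ((⟨g, h⟩ : Subgroup.centralizer ({t} : Set G)) : Quo t) ∈ D.fr.K := by
  constructor
  · rintro ⟨c, hc, rfl⟩
    exact ⟨c.2, hc⟩
  · rintro ⟨h, hh⟩
    exact ⟨⟨g, h⟩, hh, rfl⟩

theorem Setting.r_mem (k : D.kG) : D.r k ∈ D.fr.K := by
  obtain ⟨h, hh⟩ := D.mem_kG.1 k.2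
  exact hh

/-- The character of order three. -/
noncomputable def Setting.Lc : D.kG →* ℂˣ := D.fr.l.comp D.r

/-- The character of order two. -/
noncomputable def Setting.Mc : D.kG →* ℂˣ := D.fr.m.comp D.r

theorem Setting.t_mem : t ∈ D.kG := D.mem_kG.2 ⟨mem_cen t, D.fr.t_mem⟩

theorem Setting.lc_t : D.Lc ⟨t, D.t_mem⟩ = 1 := D.fr.l_t

theorem Setting.mc_t : D.Mc ⟨t, D.t_mem⟩ = -1 := D.fr.m_t

theorem Setting.lc_pow (k : D.kG) : (D.Lc k : ℂ) ^ 3 = 1 := by
  rw [← Units.val_pow_eq_pow_val, show D.Lc k ^ 3 = 1 from D.fr.l_pow _, Units.val_one]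

theorem Setting.mc_cases (k : D.kG) : (D.Mc k : ℂ) = 1 ∨ (D.Mc k : ℂ) = -1 := by
  have h : (D.Mc k : ℂ) ^ 2 = 1 := by
    rw [← Units.val_pow_eq_pow_val, show D.Mc k ^ 2 = 1 from D.fr.m_pow _, Units.val_one]
  exact sq_eq_one_iff.1 h

include D in
theorem Setting.t_ne_one : t ≠ 1 := fun h => by
  have := D.ht
  rw [h, orderOf_one] at this
  omega

include D in
theorem Setting.t_sq : t * t = 1 := by
  rw [← pow_two, ← D.ht, pow_orderOf_eq_one]

/-- The exponent separating the two cosets. -/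
noncomputable def Setting.expo (_D : Setting t) : ℕ :=
  3 * Nat.card (pPrimeCore 2 ↥(Subgroup.centralizer ({t} : Set G)))

theorem Setting.odd_core :
    Odd (Nat.card (pPrimeCore 2 ↥(Subgroup.centralizer ({t} : Set G)))) :=
  Nat.coprime_two_right.1
    (H1.card_pPrimeCore_coprime 2 ↥(Subgroup.centralizer ({t} : Set G)))

include D in
theorem Setting.pow_eq_one {c : Subgroup.centralizer ({t} : Set G)}
    (hc : c ∈ pPrimeCore 2 ↥(Subgroup.centralizer ({t} : Set G))) :
    c ^ Nat.card (pPrimeCore 2 ↥(Subgroup.centralizer ({t} : Set G))) = 1 := by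
  have h := pow_card_eq_one' (x := (⟨c, hc⟩ : pPrimeCore 2 ↥(Subgroup.centralizer ({t} : Set G))))
  exact congrArg Subtype.val h

theorem Setting.pow_cases (k : D.kG) :
    ((k : G) ^ D.expo = 1 ∧ (D.Mc k : ℂ) = 1) ∨ ((k : G) ^ D.expo = t ∧ (D.Mc k : ℂ) = -1) := by
  set c : Subgroup.centralizer ({t} : Set G) := Subgroup.inclusion D.kG_le k with hc
  have hcv : (c : G) = k := rfl
  rcases D.fr.cases _ (D.r_mem k) with ⟨h3, hm⟩ | ⟨h3, hm⟩
  · left
    refine ⟨?_, by rw [show D.Mc k = 1 from hm]; simp⟩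
    have h : c ^ 3 ∈ pPrimeCore 2 ↥(Subgroup.centralizer ({t} : Set G)) := by
      rw [← QuotientGroup.eq_one_iff, QuotientGroup.mk_pow]
      exact h3
    have h' := D.pow_eq_one h
    rw [← pow_mul] at h'
    have h'' := congrArg Subtype.val h'
    rw [SubgroupClass.coe_pow, hcv] at h''
    exact h''
  · right
    refine ⟨?_, by rw [show D.Mc k = -1 from hm]; simp⟩
    set T : Subgroup.centralizer ({t} : Set G) := ⟨t, mem_cen t⟩ with hT
    have h : T * c ^ 3 ∈ pPrimeCore 2 ↥(Subgroup.centralizer ({t} : Set G)) := by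
      rw [← QuotientGroup.eq_one_iff, QuotientGroup.mk_mul, QuotientGroup.mk_pow]
      show tq t * D.r k ^ 3 = 1
      rw [h3, ← QuotientGroup.mk_mul,
        show T * T = 1 from Subtype.ext D.t_sq, QuotientGroup.mk_one]
    have hcomm : Commute T (c ^ 3) :=
      Commute.pow_right (Subtype.ext (Subgroup.mem_centralizer_singleton_iff.1 c.2).symm) 3
    have h' := D.pow_eq_one h
    rw [hcomm.mul_pow, ← pow_mul] at h'
    have h'' := congrArg Subtype.val h'
    rw [Subgroup.coe_mul, SubgroupClass.coe_pow, SubgroupClass.coe_pow, hcv,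
      Subgroup.coe_one] at h''
    obtain ⟨j, hj⟩ := Setting.odd_core (t := t)
    have htpow : (T : G) ^ Nat.card (pPrimeCore 2 ↥(Subgroup.centralizer ({t} : Set G))) = t := by
      show t ^ _ = t
      rw [hj, pow_succ, pow_mul, pow_two, D.t_sq, one_pow, one_mul]
    rw [htpow] at h''
    calc (k : G) ^ D.expo = (t * t) * (k : G) ^ D.expo := by rw [D.t_sq, one_mul]
      _ = t := by rw [Setting.expo, mul_assoc, h'', mul_one]

theorem conj_eq_sq {z : ℂ} (h : z ^ 3 = 1) : conj z = z ^ 2 := by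
  have hn : ‖z‖ = 1 := Complex.norm_eq_one_of_pow_eq_one h (by norm_num)
  rw [← Complex.inv_eq_conj hn]
  exact inv_eq_of_mul_eq_one_right (by rw [← h]; ring)

theorem Setting.conj_lc (k : D.kG) : conj (D.Lc k : ℂ) = (D.Lc k : ℂ) ^ 2 := conj_eq_sq (D.lc_pow k)

theorem Setting.conj_mc (k : D.kG) : conj (D.Mc k : ℂ) = (D.Mc k : ℂ) := by
  rcases D.mc_cases k with h | h <;> rw [h] <;> simp

/-- The functions to be induced. -/
noncomputable def Setting.xi (i : ℕ) : D.kG → ℂ := fun k => (1 - (D.Mc k : ℂ)) * (D.Lc k : ℂ) ^ i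

/-- The induced virtual characters. -/
noncomputable def Setting.F (i : ℕ) : G → ℂ := indFun D.kG (D.xi i)

theorem Setting.F_class (i : ℕ) : IsClassFunction G (D.F i) := H12.indFun_isClassFunction _ _

theorem Setting.index_kC : D.kC.index = 4 := by
  rw [Setting.kC, Subgroup.index_comap_of_surjective _ (QuotientGroup.mk'_surjective _),
    D.fr.index_eq]

theorem Setting.card_cen :
    Nat.card ↥(Subgroup.centralizer ({t} : Set G)) = 4 * Nat.card D.kG := by
  rw [← D.kC.card_mul_index, D.index_kC, Setting.kG,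
    Subgroup.card_map_of_injective (Subgroup.subtype_injective _), mul_comm]

theorem Setting.term_of_mem (i : ℕ) (k : D.kG) {x : G}
    (hx : x ∈ Subgroup.centralizer ({t} : Set G)) (hmem : x⁻¹ * k * x ∈ D.kG) :
    extendByZero D.kG (D.xi i) (x⁻¹ * k * x) = D.xi i k := by
  rw [H12.extendByZero_mk _ _ hmem]
  have hr : D.r ⟨x⁻¹ * k * x, hmem⟩ =
      ((⟨x, hx⟩ : Subgroup.centralizer ({t} : Set G)) : Quo t)⁻¹ * D.r k *
        ((⟨x, hx⟩ : Subgroup.centralizer ({t} : Set G)) : Quo t) := by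
    show ((Subgroup.inclusion D.kG_le ⟨x⁻¹ * k * x, hmem⟩ :
      Subgroup.centralizer ({t} : Set G)) : Quo t) = _
    rw [show D.r k = ((Subgroup.inclusion D.kG_le k : Subgroup.centralizer ({t} : Set G)) : Quo t)
      from rfl, ← QuotientGroup.mk_inv, ← QuotientGroup.mk_mul, ← QuotientGroup.mk_mul]
    congr 1
  simp only [Setting.xi, Setting.Lc, Setting.Mc, MonoidHom.comp_apply, hr, map_mul, map_inv,
    inv_mul_cancel_comm]

theorem Setting.mem_cen_of_conj {k : D.kG} (hk : (D.Mc k : ℂ) = -1) {x : G}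
    (hmem : x⁻¹ * k * x ∈ D.kG) (hk' : (D.Mc ⟨_, hmem⟩ : ℂ) = -1) :
    x ∈ Subgroup.centralizer ({t} : Set G) := by
  have h1 : (k : G) ^ D.expo = t := by
    rcases D.pow_cases k with ⟨-, h⟩ | ⟨h, -⟩
    · rw [h] at hk; norm_num at hk
    · exact h
  have h2 : (x⁻¹ * (k : G) * x) ^ D.expo = t := by
    rcases D.pow_cases ⟨_, hmem⟩ with ⟨-, h⟩ | ⟨h, -⟩
    · rw [h] at hk'; norm_num at hk'
    · exact h
  rw [show x⁻¹ * (k : G) * x = x⁻¹ * k * x⁻¹⁻¹ by rw [inv_inv], conj_pow, h1, inv_inv,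
    mul_assoc, inv_mul_eq_iff_eq_mul] at h2
  rw [Subgroup.mem_centralizer_singleton_iff]
  exact h2.symm

theorem Setting.sum_extend_const (H : Subgroup G) (c : ℂ) :
    ∑ x : G, extendByZero H (fun _ => c) x = (Nat.card H : ℂ) * c := by
  haveI := Fintype.ofFinite H
  have h := H12.sum_extendByZero_mul H (fun _ => c) (fun _ => (1 : ℂ))
  simpa [Nat.card_eq_fintype_card] using h

/-- The restriction of the induced functions. -/
theorem Setting.F_res (i : ℕ) (k : D.kG) :
    D.F i k = D.xi i k * (2 + (D.Lc k : ℂ) + (D.Lc k : ℂ) ^ 2) := by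
  classical
  have hK : (Nat.card D.kG : ℂ) ≠ 0 := by exact_mod_cast Nat.card_pos.ne'
  rw [Setting.F, H12.indFun_apply, inv_mul_eq_iff_eq_mul₀ hK]
  have hzero : ∀ x : G, x ∉ Subgroup.centralizer ({t} : Set G) → (D.Mc k : ℂ) = -1 →
      extendByZero D.kG (D.xi i) (x⁻¹ * k * x) = 0 := by
    intro x hx hM
    by_cases hmem : x⁻¹ * (k : G) * x ∈ D.kG
    · rw [H12.extendByZero_mk _ _ hmem]
      rcases D.mc_cases ⟨_, hmem⟩ with h | h
      · rw [Setting.xi, h]; simp
      · exact absurd (D.mem_cen_of_conj hM hmem h) hx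
    · exact H12.extendByZero_of_notMem _ _ hmem
  rcases D.mc_cases k with hM | hM
  · have hxi : D.xi i k = 0 := by rw [Setting.xi, hM]; simp
    rw [hxi, zero_mul, mul_zero]
    refine Finset.sum_eq_zero fun x _ => ?_
    by_cases hmem : x⁻¹ * (k : G) * x ∈ D.kG
    · rw [H12.extendByZero_mk _ _ hmem]
      rcases D.pow_cases ⟨_, hmem⟩ with ⟨-, h⟩ | ⟨h, -⟩
      · rw [Setting.xi, h]; simp
      · exfalso
        have h1 : (k : G) ^ D.expo = 1 := by
          rcases D.pow_cases k with ⟨h', -⟩ | ⟨-, h'⟩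
          · exact h'
          · rw [hM] at h'; norm_num at h'
        apply D.t_ne_one
        rw [← h]
        show (x⁻¹ * (k : G) * x) ^ D.expo = 1
        rw [show x⁻¹ * (k : G) * x = x⁻¹ * k * x⁻¹⁻¹ by rw [inv_inv], conj_pow, h1]
        group
    · exact H12.extendByZero_of_notMem _ _ hmem
  · by_cases hL : D.Lc k = 1
    · have hterm : ∀ x : G, extendByZero D.kG (D.xi i) (x⁻¹ * k * x) =
          extendByZero (Subgroup.centralizer ({t} : Set G)) (fun _ => D.xi i k) x := by
        intro x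
        by_cases hx : x ∈ Subgroup.centralizer ({t} : Set G)
        · rw [H12.extendByZero_mk _ _ hx]
          refine D.term_of_mem i k hx (D.mem_kG.2 ⟨Subgroup.mul_mem _ (Subgroup.mul_mem _
            (Subgroup.inv_mem _ hx) (D.kG_le k.2)) hx, ?_⟩)
          set X : Quo t := ((⟨x, hx⟩ : Subgroup.centralizer ({t} : Set G)) : Quo t) with hX
          have hcent : X * tq t = tq t * X := by
            rw [hX, ← QuotientGroup.mk_mul, ← QuotientGroup.mk_mul]
            congr 1
            exact Subtype.ext (Subgroup.mem_centralizer_singleton_iff.1 hx)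
          have hk' : D.r k = 1 ∨ D.r k = tq t := D.fr.one_cases _ (D.r_mem k) hL
          have hgoal : X⁻¹ * D.r k * X ∈ D.fr.K := by
            rcases hk' with h | h <;> rw [h]
            · rw [mul_one, inv_mul_cancel]; exact one_mem _
            · rw [mul_assoc, ← hcent, inv_mul_cancel_left]; exact D.fr.t_mem
          exact hgoal
        · rw [H12.extendByZero_of_notMem _ _ hx, hzero x hx hM]
      rw [Finset.sum_congr rfl fun x _ => hterm x, Setting.sum_extend_const, D.card_cen, hL,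
        Units.val_one]
      push_cast
      ring
    · have hterm : ∀ x : G, extendByZero D.kG (D.xi i) (x⁻¹ * k * x) =
          extendByZero D.kG (fun _ => D.xi i k) x := by
        intro x
        by_cases hxK : x ∈ D.kG
        · rw [H12.extendByZero_mk D.kG (fun _ => D.xi i k) hxK]
          exact D.term_of_mem i k (D.kG_le hxK)
            (D.kG.mul_mem (D.kG.mul_mem (D.kG.inv_mem hxK) k.2) hxK)
        · rw [H12.extendByZero_of_notMem _ _ hxK]
          by_cases hx : x ∈ Subgroup.centralizer ({t} : Set G)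
          · refine H12.extendByZero_of_notMem _ _ fun hmem => hxK ?_
            obtain ⟨h, hh⟩ := D.mem_kG.1 hmem
            refine D.mem_kG.2 ⟨hx, ?_⟩
            have hinv := D.fr.conj _ (D.r_mem k) hL
              ((⟨x, hx⟩ : Subgroup.centralizer ({t} : Set G)) : Quo t)⁻¹ (by
                rw [inv_inv]; exact hh)
            exact (Subgroup.inv_mem_iff _).1 hinv
          · exact hzero x hx hM
      rw [Finset.sum_congr rfl fun x _ => hterm x, Setting.sum_extend_const]
      have hne : (D.Lc k : ℂ) ≠ 1 := fun h => hL (Units.ext (by simpa using h))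
      have h3 : 1 + (D.Lc k : ℂ) + (D.Lc k : ℂ) ^ 2 = 0 := by
        have : ((D.Lc k : ℂ) - 1) * (1 + (D.Lc k : ℂ) + (D.Lc k : ℂ) ^ 2) = 0 := by
          linear_combination D.lc_pow k
        exact (mul_eq_zero.1 this).resolve_left (sub_ne_zero.2 hne)
      linear_combination (-(Nat.card D.kG : ℂ) * D.xi i k) * h3

theorem Setting.exists_lift_y : ∃ k : D.kG, D.r k = D.fr.y := by
  obtain ⟨c, hc⟩ := QuotientGroup.mk_surjective D.fr.y
  refine ⟨⟨c, D.mem_kG.2 ⟨c.2, ?_⟩⟩, hc⟩
  rw [show (⟨(c : G), c.2⟩ : Subgroup.centralizer ({t} : Set G)) = c from rfl, hc]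
  exact D.fr.y_mem

theorem Setting.lc_pow_mod (k : D.kG) (n : ℕ) : (D.Lc k : ℂ) ^ n = (D.Lc k : ℂ) ^ (n % 3) := by
  conv_lhs => rw [← Nat.mod_add_div n 3, pow_add, pow_mul, D.lc_pow, one_pow, mul_one]

theorem Setting.sum_L [Fintype D.kG] (n : ℕ) :
    ∑ k : D.kG, (D.Lc k : ℂ) ^ n = if 3 ∣ n then (Nat.card D.kG : ℂ) else 0 := by
  split_ifs with h
  · rw [Finset.sum_congr rfl fun k _ => by
      rw [D.lc_pow_mod, Nat.mod_eq_zero_of_dvd h, pow_zero], Finset.sum_const, Finset.card_univ,
      nsmul_eq_mul, mul_one, Nat.card_eq_fintype_card]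
  · have hne : (Units.coeHom ℂ).comp (D.Lc ^ n) ≠ 1 := by
      intro he
      obtain ⟨k, hk⟩ := D.exists_lift_y
      have h1 := DFunLike.congr_fun he k
      simp only [MonoidHom.comp_apply, Units.coeHom_apply, MonoidHom.pow_apply,
        Units.val_pow_eq_pow_val, MonoidHom.one_apply] at h1
      rw [D.lc_pow_mod] at h1
      have hy : (D.Lc k : ℂ) ≠ 1 := fun h2 => D.fr.l_y (by
        rw [← hk]; exact Units.ext (by simpa [Setting.Lc] using h2))
      have h3 := D.lc_pow k
      have : n % 3 = 1 ∨ n % 3 = 2 := by omega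
      rcases this with h' | h' <;> rw [h'] at h1
      · exact hy (by simpa using h1)
      · rw [pow_succ, h1, one_mul] at h3
        exact hy h3
    simpa using sum_hom_units_eq_zero _ hne

theorem Setting.sum_ML [Fintype D.kG] (n : ℕ) :
    ∑ k : D.kG, (D.Mc k : ℂ) * (D.Lc k : ℂ) ^ n = 0 := by
  have hne : (Units.coeHom ℂ).comp (D.Mc * D.Lc ^ n) ≠ 1 := by
    intro he
    have h1 := DFunLike.congr_fun he ⟨t, D.t_mem⟩
    simp [D.mc_t, D.lc_t] at h1
    norm_num at h1
  simpa using sum_hom_units_eq_zero _ hne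

theorem Setting.sum_xi [Fintype D.kG] (n : ℕ) :
    ∑ k : D.kG, (1 - (D.Mc k : ℂ)) * (D.Lc k : ℂ) ^ n =
      if 3 ∣ n then (Nat.card D.kG : ℂ) else 0 := by
  simp only [sub_mul, one_mul, Finset.sum_sub_distrib, D.sum_ML, sub_zero, D.sum_L]

theorem Setting.inner_F {i j : ℕ} (hi : i < 3) (hj : j < 3) :
    classInner (D.F i) (D.F j) = if i = j then 4 else 2 := by
  haveI := Fintype.ofFinite D.kG
  have hK : (Nat.card D.kG : ℂ) ≠ 0 := by exact_mod_cast Nat.card_pos.ne'
  conv_lhs => rw [Setting.F, H12.classInner_indFun _ _ (D.F_class j), H12.classInner_def]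
  have hterm : ∀ k : D.kG, D.xi i k * conj (D.F j k) =
      4 * ((1 - (D.Mc k : ℂ)) * (D.Lc k : ℂ) ^ (i + 2 * j)) +
      2 * ((1 - (D.Mc k : ℂ)) * (D.Lc k : ℂ) ^ (i + 2 * j + 2)) +
      2 * ((1 - (D.Mc k : ℂ)) * (D.Lc k : ℂ) ^ (i + 2 * j + 4)) := by
    intro k
    rw [D.F_res]
    simp only [Setting.xi, map_mul, map_sub, map_add, map_one, map_pow, D.conj_mc, D.conj_lc,
      map_ofNat, ← pow_mul]
    have hM : (D.Mc k : ℂ) * (D.Mc k : ℂ) = 1 := by
      rcases D.mc_cases k with h | h <;> rw [h] <;> norm_num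
    linear_combination ((D.Lc k : ℂ) ^ (i + 2 * j) * (2 + (D.Lc k : ℂ) ^ 2 + (D.Lc k : ℂ) ^ 4)) * hM
  rw [Finset.sum_congr rfl fun k _ => hterm k]
  simp only [Finset.sum_add_distrib, ← Finset.mul_sum, D.sum_xi]
  interval_cases i <;> interval_cases j <;> norm_num <;> field_simp <;> norm_num

theorem Setting.F_one (i : ℕ) : D.F i 1 = 0 := by
  rw [Setting.F, H12.indFun_one, Setting.xi]
  simp

theorem Setting.inner_F_one {i : ℕ} (hi : i < 3) :
    classInner (D.F i) (H12.oneIrr G : G → ℂ) = if i = 0 then 1 else 0 := by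
  haveI := Fintype.ofFinite D.kG
  have hK : (Nat.card D.kG : ℂ) ≠ 0 := by exact_mod_cast Nat.card_pos.ne'
  rw [Setting.F, H12.classInner_indFun _ _ (H12.irr_isClassFunction _), H12.classInner_def]
  simp only [H12.oneIrr_apply, map_one, mul_one, Setting.xi, D.sum_xi]
  interval_cases i <;> simp [hK]

theorem Setting.exists_int (i : ℕ) (χ : IrrCharacter G) :
    ∃ n : ℤ, classInner (D.F i) (χ : G → ℂ) = (n : ℂ) := by
  haveI := Fintype.ofFinite D.kG
  rw [Setting.F, H12.classInner_indFun _ _ (H12.irr_isClassFunction _)]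
  have hsplit : D.xi i = (fun k => ((D.Lc ^ i) k : ℂ)) - fun k => ((D.Mc * D.Lc ^ i) k : ℂ) := by
    funext k
    simp [Setting.xi, sub_mul]
  have hres := H12.IsCharacter.res (H12.isCharacter_irr χ) D.kG
  obtain ⟨a, ha⟩ := H12.IsCharacter.classInner_nat (H12.isCharacter_monoidHom (D.Lc ^ i)) hres
  obtain ⟨b, hb⟩ := H12.IsCharacter.classInner_nat
    (H12.isCharacter_monoidHom (D.Mc * D.Lc ^ i)) hres
  refine ⟨(a : ℤ) - b, ?_⟩
  rw [hsplit, H12.classInner_sub_left, ha, hb]
  push_cast
  ring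

/-- The integral coefficients. -/
noncomputable def Setting.mult (i : ℕ) (χ : IrrCharacter G) : ℤ := (D.exists_int i χ).choose

theorem Setting.mult_spec (i : ℕ) (χ : IrrCharacter G) :
    classInner (D.F i) (χ : G → ℂ) = (D.mult i χ : ℂ) := (D.exists_int i χ).choose_spec

theorem Setting.mult_one {i : ℕ} (hi : i < 3) :
    D.mult i (H12.oneIrr G) = if i = 0 then 1 else 0 := by
  have h := D.mult_spec i (H12.oneIrr G)
  rw [D.inner_F_one hi] at h
  split_ifs with hi0
  · rw [if_pos hi0] at h; exact_mod_cast h.symm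
  · rw [if_neg hi0] at h; exact_mod_cast h.symm

variable {M : Ideal AlgInt} [hMp : M.IsPrime]

theorem mem_principal_of_inflate (hsolv : Group.IsSolvable ↥(Subgroup.centralizer ({t} : Set G)))
    (hM : IsPModular 2 M) [Fintype ↥(Subgroup.centralizer ({t} : Set G))]
    (ψ : IrrCharacter (Quo t)) :
    H21.inflate (pPrimeCore 2 ↥(Subgroup.centralizer ({t} : Set G))) ψ ∈
      principalBlock M ↥(Subgroup.centralizer ({t} : Set G)) := by
  haveI : Fact (Nat.Prime 2) := ⟨Nat.prime_two⟩
  haveI : Fintype (Quo t) := Fintype.ofFinite _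
  haveI := hsolv
  have hq : IsPSolvable 2 (Quo t) := H10.isPSolvable_quotient
    H10.isPSolvable_of_isSolvable _
  have h := H20.single_block hM hq H10.pPrimeCore_quotient_pPrimeCore
    (H12.oneIrr (Quo t)) ψ
  have h1 : H21.inflate (pPrimeCore 2 ↥(Subgroup.centralizer ({t} : Set G)))
      (H12.oneIrr (Quo t)) = H12.oneIrr _ := Subtype.ext (funext fun _ => rfl)
  show SameBlock M
    ((H12.oneIrr ↥(Subgroup.centralizer ({t} : Set G)) :
      IrrCharacter ↥(Subgroup.centralizer ({t} : Set G))) :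
      ↥(Subgroup.centralizer ({t} : Set G)) → ℂ) _
  rw [← h1, H20.sameBlock_iff]
  intro g
  rw [← H21.lam_qMap _ (H12.oneIrr (Quo t)) (H20.isCl_clSum _ g),
    ← H21.lam_qMap _ ψ (H20.isCl_clSum _ g), H20.lam_eq_of_sameBlock h]

/-- Constituents lie in the principal block. -/
theorem Setting.mult_eq_zero (hsolv : Group.IsSolvable ↥(Subgroup.centralizer ({t} : Set G)))
    (hM : IsPModular 2 M) {χ : IrrCharacter G} (hχ : χ ∉ principalBlock M G) (i : ℕ) :
    D.mult i χ = 0 := by
  classical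
  haveI : Fact (Nat.Prime 2) := ⟨Nat.prime_two⟩
  haveI := Fintype.ofFinite D.kG
  haveI := Fintype.ofFinite D.fr.K
  haveI := Fintype.ofFinite D.kC
  haveI := Fintype.ofFinite ↥(Subgroup.centralizer ({t} : Set G))
  haveI : Fintype (Quo t) := Fintype.ofFinite _
  set C := Subgroup.centralizer ({t} : Set G) with hC
  set θ : C → ℂ := fun c => (χ : G → ℂ) (t * (c : G)) with hθ
  have hθcl : IsClassFunction C θ := H20.isClassFunction_shift (H12.irr_isClassFunction χ) t
  -- the function on the quotient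
  set g₀ : D.fr.K → ℂ := fun q => (1 + (D.fr.m q : ℂ)) * (D.fr.l q : ℂ) ^ i with hg₀
  set f₀ : Quo t → ℂ := indFun D.fr.K g₀ with hf₀
  set f : C → ℂ := fun c => f₀ (c : Quo t) with hf
  have hfind : f = indFun D.kC (fun x => g₀ ⟨((x : C) : Quo t), x.2⟩) :=
    funext fun c => (H12.indFun_comap_mk _ D.fr.K g₀ c).symm
  have hfcl : IsClassFunction C f := by rw [hfind]; exact H12.indFun_isClassFunction _ _
  have hx2 : ∃ k : ℕ, orderOf t = 2 ^ k := ⟨1, by rw [D.ht]; rfl⟩
  set b₀ := principalBlock M C with hb₀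
  -- the block part of `θ` vanishes on the elements of odd order
  have hvan : ∀ c : C, ¬ 2 ∣ orderOf c → blockPart b₀ θ c = 0 := by
    intro c hc
    refine H20.blockPart_shift_eq_zero hM hx2 (H20.isPBlock_blockOf χ) (H20.mem_blockOf_self χ)
      H20.isPBlock_principalBlock ?_ c hc
    intro hind
    apply hχ
    have h0 : IsInducedBlock M C b₀ (principalBlock M G) :=
      (H20.third_main hM C ⟨_, hind⟩).2 rfl
    rw [H20.inducedBlock_unique C h0 hind]
    exact H20.mem_blockOf_self χ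
  -- the support of `f`
  have hsupp : ∀ c : C, f c ≠ 0 → ¬ 2 ∣ orderOf c := by
    intro c hc
    obtain ⟨x, hx⟩ : ∃ x : Quo t, extendByZero D.fr.K g₀ (x⁻¹ * (c : Quo t) * x) ≠ 0 := by
      by_contra hno
      push Not at hno
      exact hc (by rw [hf]; show f₀ _ = 0; rw [hf₀, H12.indFun_apply,
        Finset.sum_eq_zero fun x _ => hno x, mul_zero])
    have hmem : x⁻¹ * (c : Quo t) * x ∈ D.fr.K := by
      by_contra h
      exact hx (H12.extendByZero_of_notMem _ _ h)
    rw [H12.extendByZero_mk _ _ hmem] at hx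
    have h3 : (c : Quo t) ^ 3 = 1 := by
      rcases D.fr.cases _ hmem with ⟨h, -⟩ | ⟨-, hm⟩
      · rw [show x⁻¹ * (c : Quo t) * x = x⁻¹ * (c : Quo t) * x⁻¹⁻¹ by rw [inv_inv], conj_pow,
          conj_eq_one_iff] at h
        exact h
      · exfalso; apply hx; simp only [hg₀, hm]; simp
    have h := D.pow_eq_one (c := c ^ 3) (by
      rw [← QuotientGroup.eq_one_iff, QuotientGroup.mk_pow]; exact h3)
    rw [← pow_mul] at h
    intro h2
    have hodd : Odd (3 * Nat.card (pPrimeCore 2 C)) := (by decide : Odd 3).mul Setting.odd_core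
    exact (Nat.not_even_iff_odd.2 hodd) (even_iff_two_dvd.2
      (h2.trans (orderOf_dvd_of_pow_eq_one h)))
  -- `f` only involves the principal block
  have hzero : classInner f (blockPart b₀ θ) = 0 := by
    rw [H12.classInner_def, Finset.sum_eq_zero, mul_zero]
    intro c _
    by_cases hc : f c = 0
    · rw [hc, zero_mul]
    · rw [hvan c (hsupp c hc), map_zero, mul_zero]
  have hout : ∀ φ : IrrCharacter C, φ ∉ b₀ → classInner f (φ : C → ℂ) = 0 := by
    intro φ hφ
    have hexp : f = ∑ ψ : IrrCharacter (Quo t),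
        classInner f₀ (ψ : Quo t → ℂ) • (H21.inflate (pPrimeCore 2 C) ψ : C → ℂ) := by
      funext c
      rw [hf]
      show f₀ _ = _
      rw [H12.classFunction_apply_eq_sum (f := f₀) (H12.indFun_isClassFunction _ _),
        Finset.sum_apply]
      exact Finset.sum_congr rfl fun ψ _ => rfl
    rw [hexp, H12.classInner_sum_left, Finset.sum_eq_zero]
    intro ψ _
    rw [H12.classInner_smul_left, H12.classInner_irr_ne, mul_zero]
    exact fun e => hφ (e ▸ mem_principal_of_inflate hsolv hM ψ)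
  have hprod : classInner f θ = 0 := by
    rw [← hzero, H12.classInner_eq_sum_mul hfcl hθcl,
      H12.classInner_eq_sum_mul hfcl (H20.isClassFunction_blockPart _ _)]
    refine Finset.sum_congr rfl fun φ _ => ?_
    by_cases hφ : φ ∈ b₀
    · congr 2
      have hbp : blockPart b₀ θ = ∑ ψ : IrrCharacter C,
          (if ψ ∈ b₀ then classInner θ (ψ : C → ℂ) else 0) • (ψ : C → ℂ) := by
        funext c
        rw [H20.blockPart_eq_sum, Finset.sum_apply]
        refine Finset.sum_congr rfl fun ψ _ => ?_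
        split_ifs <;> simp
      rw [hbp, H12.classInner_sum_smul_irr, if_pos hφ]
    · rw [hout φ hφ, zero_mul, zero_mul]
  -- back to the subgroup of the group
  have hK : (Nat.card D.kC : ℂ) ≠ 0 := by exact_mod_cast Nat.card_pos.ne'
  have h := D.mult_spec i χ
  rw [Setting.F, H12.classInner_indFun _ _ (H12.irr_isClassFunction _), H12.classInner_def] at h
  rw [hfind, H12.classInner_indFun _ _ hθcl, H12.classInner_def, mul_eq_zero] at hprod
  replace hprod := hprod.resolve_left (inv_ne_zero hK)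
  let e : D.kC ≃ D.kG := (D.kC.equivMapOfInjective C.subtype C.subtype_injective).toEquiv
  have hsum : ∑ k : D.kG, D.xi i k * conj ((χ : G → ℂ) k) = 0 := by
    rw [← Fintype.sum_equiv (Equiv.mulLeft (⟨t, D.t_mem⟩ : D.kG))
      (fun k => D.xi i (⟨t, D.t_mem⟩ * k) * conj ((χ : G → ℂ) (t * (k : G))))
      (fun k => D.xi i k * conj ((χ : G → ℂ) k)) (fun _ => rfl),
      ← Fintype.sum_equiv e (fun c => g₀ ⟨((c : C) : Quo t), c.2⟩ * conj (θ c)) _ (fun c => ?_)]
    · exact hprod
    · simp only [Setting.xi, map_mul, D.mc_t, D.lc_t, one_mul, Units.val_mul, Units.val_neg,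
        Units.val_one, neg_mul, sub_neg_eq_add]
      rfl
  rw [hsum, mul_zero] at h
  exact_mod_cast h.symm

/-- The value at the involution of the characters of the principal block. -/
theorem Setting.value_eq (hM : IsPModular 2 M) {χ : IrrCharacter G}
    (hχ : χ ∈ principalBlock M G) :
    (χ : G → ℂ) t = ((D.mult 0 χ + D.mult 1 χ + D.mult 2 χ : ℤ) : ℂ) := by
  haveI := Fintype.ofFinite D.kG
  have hK : (Nat.card D.kG : ℂ) ≠ 0 := by exact_mod_cast Nat.card_pos.ne'
  have hx2 : ∃ k : ℕ, orderOf t = 2 ^ k := ⟨1, by rw [D.ht]; rfl⟩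
  have hterm : ∀ k : D.kG,
      (D.xi 0 k + D.xi 1 k + D.xi 2 k) * conj ((χ : G → ℂ) k) =
      (D.xi 0 k + D.xi 1 k + D.xi 2 k) * conj ((χ : G → ℂ) t) := by
    intro k
    rcases D.mc_cases k with hm | hm
    · simp [Setting.xi, hm]
    by_cases hL : D.Lc k = 1
    · rcases D.fr.one_cases _ (D.r_mem k) hL with h | h
      · exfalso
        have h1 : D.Mc k = 1 := by rw [Setting.Mc, MonoidHom.comp_apply, h, map_one]
        rw [h1] at hm
        norm_num at hm
      · congr 2
        have hv : (⟨t, mem_cen t⟩ : Subgroup.centralizer ({t} : Set G))⁻¹ *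
            Subgroup.inclusion D.kG_le k ∈ pPrimeCore 2 ↥(Subgroup.centralizer ({t} : Set G)) :=
          QuotientGroup.eq.1 h.symm
        have h' := H20.principal_shift_core hM hx2
          (v := t⁻¹ * (k : G)) ⟨_, hv, rfl⟩ hχ
        rwa [mul_inv_cancel_left] at h'
    · have h3 : ((D.Lc k : ℂ) - 1) * (1 + (D.Lc k : ℂ) + (D.Lc k : ℂ) ^ 2) = 0 := by
        linear_combination D.lc_pow k
      have hne : (D.Lc k : ℂ) ≠ 1 := fun h => hL (Units.ext (by simpa using h))
      have h4 := (mul_eq_zero.1 h3).resolve_left (sub_ne_zero.2 hne)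
      have hx : D.xi 0 k + D.xi 1 k + D.xi 2 k = 0 := by
        simp only [Setting.xi]
        linear_combination (1 - (D.Mc k : ℂ)) * h4
      rw [hx, zero_mul, zero_mul]
  have h : classInner (D.F 0) (χ : G → ℂ) + classInner (D.F 1) (χ : G → ℂ) +
      classInner (D.F 2) (χ : G → ℂ) = conj ((χ : G → ℂ) t) := by
    simp only [Setting.F, H12.classInner_indFun _ _ (H12.irr_isClassFunction χ),
      H12.classInner_def, ← mul_add, ← Finset.sum_add_distrib, ← add_mul]
    rw [Finset.sum_congr rfl fun k _ => hterm k, ← Finset.sum_mul]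
    simp only [Setting.xi, Finset.sum_add_distrib, D.sum_xi]
    norm_num
  rw [D.mult_spec, D.mult_spec, D.mult_spec] at h
  have h' := congrArg conj h
  rw [Complex.conj_conj] at h'
  rw [← h']
  simp

theorem Setting.mult_bound {i : ℕ} (hi : i < 3) (χ : IrrCharacter G) :
    -1 ≤ D.mult i χ ∧ D.mult i χ ≤ 1 := by
  classical
  have hsq : ∑ φ : IrrCharacter G, (D.mult i φ) ^ 2 = 4 := by
    have h := H12.classInner_eq_sum_mul (D.F_class i) (D.F_class i)
    rw [D.inner_F hi hi, if_pos rfl] at h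
    simp only [D.mult_spec, map_intCast, ← pow_two] at h
    exact_mod_cast h.symm
  by_contra hb
  have h4 : 4 ≤ D.mult i χ ^ 2 := by
    rcases not_and_or.1 hb with h | h <;> nlinarith
  have hrest : ∀ φ : IrrCharacter G, φ ≠ χ → D.mult i φ = 0 := by
    intro φ hφ
    have h2 : D.mult i φ ^ 2 + D.mult i χ ^ 2 ≤ 4 := by
      rw [← hsq, ← Finset.sum_pair hφ (f := fun ψ => D.mult i ψ ^ 2)]
      exact Finset.sum_le_univ_sum_of_nonneg (fun ψ => sq_nonneg _)
    nlinarith [sq_nonneg (D.mult i φ)]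
  have h1 := H12.classFunction_apply_eq_sum (D.F_class i) (1 : G)
  rw [D.F_one, Finset.sum_eq_single χ (fun φ _ hφ => by rw [D.mult_spec, hrest φ hφ]; simp)
    (by simp), D.mult_spec, eq_comm, mul_eq_zero] at h1
  rcases h1 with h1 | h1
  · have : D.mult i χ = 0 := by exact_mod_cast h1
    rw [this] at h4
    norm_num at h4
  · exact H12.irr_apply_one_ne_zero χ h1

/-- The difference of the first two induced functions. -/
noncomputable def Setting.diff : G → ℂ := D.F 0 - D.F 1

theorem Setting.diff_class : IsClassFunction G D.diff :=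
  H12.IsClassFunction.sub (D.F_class 0) (D.F_class 1)

theorem Setting.diff_eq_sum (g : G) :
    D.diff g = ∑ χ : IrrCharacter G, ((D.mult 0 χ - D.mult 1 χ : ℤ) : ℂ) * (χ : G → ℂ) g := by
  rw [H12.classFunction_apply_eq_sum D.diff_class]
  refine Finset.sum_congr rfl fun χ _ => ?_
  rw [Setting.diff, H12.classInner_sub_left, D.mult_spec, D.mult_spec]
  push_cast
  ring

theorem Setting.diff_sq : ∑ χ : IrrCharacter G, (D.mult 0 χ - D.mult 1 χ) ^ 2 = 4 := by
  have h := H12.classInner_eq_sum_mul D.diff_class D.diff_class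
  simp only [Setting.diff, H12.classInner_sub_left, H12.classInner_sub_right,
    D.inner_F (show 0 < 3 by norm_num) (show 0 < 3 by norm_num),
    D.inner_F (show 0 < 3 by norm_num) (show 1 < 3 by norm_num),
    D.inner_F (show 1 < 3 by norm_num) (show 0 < 3 by norm_num),
    D.inner_F (show 1 < 3 by norm_num) (show 1 < 3 by norm_num), D.mult_spec] at h
  norm_num at h
  simp only [← pow_two] at h
  exact_mod_cast h.symm

theorem Setting.diff_t : D.diff t = 0 := by
  have h0 := D.F_res 0 ⟨t, D.t_mem⟩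
  have h1 := D.F_res 1 ⟨t, D.t_mem⟩
  simp only [Setting.xi, D.lc_t, Units.val_one, one_pow] at h0 h1
  rw [Setting.diff, Pi.sub_apply, h0, h1, sub_self]

/-- The difference vanishes on every product of two conjugates of `t`. -/
theorem Setting.diff_mul_conj (a : G) : D.diff (t * (a * t * a⁻¹)) = 0 := by
  classical
  set u := a * t * a⁻¹ with hu
  have huu : u * u = 1 := by
    rw [hu, show a * t * a⁻¹ * (a * t * a⁻¹) = a * (t * t) * a⁻¹ by group, D.t_sq]
    group
  rw [Setting.diff, Pi.sub_apply, Setting.F, Setting.F, H12.indFun_apply, H12.indFun_apply,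
    ← mul_sub, ← Finset.sum_sub_distrib, Finset.sum_eq_zero, mul_zero]
  intro x _
  by_cases hmem : x⁻¹ * (t * u) * x ∈ D.kG
  · rw [H12.extendByZero_mk _ _ hmem, H12.extendByZero_mk _ _ hmem]
    set k : D.kG := ⟨_, hmem⟩ with hk
    rcases D.pow_cases k with ⟨-, hm⟩ | ⟨hpow, -⟩
    · simp [Setting.xi, hm]
    have hL : D.Lc k = 1 := by
      set s := x⁻¹ * t * x with hs
      have hinv : s * (k : G) * s⁻¹ = (k : G)⁻¹ := by
        apply eq_inv_of_mul_eq_one_left
        show x⁻¹ * t * x * (x⁻¹ * (t * u) * x) * (x⁻¹ * t * x)⁻¹ * (x⁻¹ * (t * u) * x) = 1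
        calc x⁻¹ * t * x * (x⁻¹ * (t * u) * x) * (x⁻¹ * t * x)⁻¹ * (x⁻¹ * (t * u) * x)
            = x⁻¹ * ((t * t) * (u * u)) * x := by group
          _ = 1 := by rw [D.t_sq, huu]; group
      have hsC : s ∈ Subgroup.centralizer ({t} : Set G) := by
        rw [Subgroup.mem_centralizer_singleton_iff]
        have h := congrArg (· ^ D.expo) hinv
        simp only [conj_pow, inv_pow, hpow] at h
        rw [inv_eq_of_mul_eq_one_right D.t_sq] at h
        exact mul_inv_eq_iff_eq_mul.1 h
      have hq : ((⟨s, hsC⟩ : Subgroup.centralizer ({t} : Set G)) : Quo t) * D.r k *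
          ((⟨s, hsC⟩ : Subgroup.centralizer ({t} : Set G)) : Quo t)⁻¹ = (D.r k)⁻¹ := by
        rw [show D.r k = ((Subgroup.inclusion D.kG_le k : Subgroup.centralizer ({t} : Set G)) :
          Quo t) from rfl, ← QuotientGroup.mk_inv, ← QuotientGroup.mk_inv, ← QuotientGroup.mk_mul,
          ← QuotientGroup.mk_mul]
        exact congrArg _ (Subtype.ext hinv)
      have h := congrArg D.fr.l hq
      rw [map_mul, map_mul, map_inv, map_inv, mul_inv_cancel_comm] at h
      have h2 : D.Lc k ^ 2 = 1 := by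
        show D.fr.l (D.r k) ^ 2 = 1
        rw [pow_two]
        nth_rw 2 [h]
        exact mul_inv_cancel _
      exact eq_one_of_pow_two_three h2 (D.fr.l_pow _)
    simp [Setting.xi, hL]
  · rw [H12.extendByZero_of_notMem _ _ hmem, H12.extendByZero_of_notMem _ _ hmem, sub_self]

/-- The relation given by the structure constant. -/
theorem Setting.structure_relation :
    ∑ χ : IrrCharacter G, ((D.mult 0 χ - D.mult 1 χ : ℤ) : ℂ) *
      ((χ : G → ℂ) t * (χ : G → ℂ) t / (χ : G → ℂ) 1) = 0 := by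
  have hG : (Nat.card G : ℂ) ≠ 0 := by exact_mod_cast Nat.card_pos.ne'
  have h : ∑ a : G, D.diff (t * (a * t * a⁻¹)) = 0 :=
    Finset.sum_eq_zero fun a _ => D.diff_mul_conj a
  simp only [D.diff_eq_sum] at h
  rw [Finset.sum_comm] at h
  simp only [← Finset.mul_sum, H12.irr_class_product] at h
  have h2 : (Nat.card G : ℂ) * ∑ χ : IrrCharacter G, ((D.mult 0 χ - D.mult 1 χ : ℤ) : ℂ) *
      ((χ : G → ℂ) t * (χ : G → ℂ) t / (χ : G → ℂ) 1) = 0 := by
    rw [Finset.mul_sum, ← h]
    exact Finset.sum_congr rfl fun χ _ => by ring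
  exact (mul_eq_zero.1 h2).resolve_left hG

theorem Setting.mult_diff_ne_zero_mem
    (hsolv : Group.IsSolvable ↥(Subgroup.centralizer ({t} : Set G)))
    (hM : IsPModular 2 M) {χ : IrrCharacter G} (h : D.mult 0 χ - D.mult 1 χ ≠ 0) :
    χ ∈ principalBlock M G := by
  by_contra hn
  rw [D.mult_eq_zero hsolv hM hn, D.mult_eq_zero hsolv hM hn] at h
  exact h rfl

include D in
/-- No simple group has such an involution with all others in the subgroup conjugate to it. -/
theorem Setting.false_of_simple [IsSimpleGroup G]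
    (hsolv : Group.IsSolvable ↥(Subgroup.centralizer ({t} : Set G))) (S : Subgroup G)
    (hS8 : Nat.card S = 8) (hconj : ∀ s ∈ S, s ≠ 1 → IsConj t s) : False := by
  classical
  obtain ⟨M, hM⟩ := H20.exists_isPModular (p := 2) Nat.prime_two
  haveI : M.IsPrime := hM.2.1.isPrime
  haveI : Fintype S := Fintype.ofFinite _
  -- the coefficients, the values and the degrees
  set m : IrrCharacter G → ℤ := fun χ => D.mult 0 χ - D.mult 1 χ with hm
  set A : IrrCharacter G → ℤ := fun χ => D.mult 0 χ + D.mult 1 χ + D.mult 2 χ with hA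
  set d : IrrCharacter G → ℕ := fun χ => H12.degree (χ : G → ℂ) with hd
  set R : Finset (IrrCharacter G) :=
    (Finset.univ.erase (H12.oneIrr G)).filter (fun χ => m χ ≠ 0) with hR
  have hval : ∀ χ, m χ ≠ 0 → (χ : G → ℂ) t = (A χ : ℂ) := fun χ h =>
    D.value_eq hM (D.mult_diff_ne_zero_mem hsolv hM h)
  have hsplit : ∀ {N : Type} [AddCommMonoid N] (g : IrrCharacter G → N),
      (∀ χ, m χ = 0 → g χ = 0) → ∑ χ, g χ = g (H12.oneIrr G) + ∑ χ ∈ R, g χ := by
    intro N _ g hg
    rw [← Finset.add_sum_erase _ g (Finset.mem_univ (H12.oneIrr G)), hR,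
      Finset.sum_filter_of_ne]
    exact fun χ _ hχ h => hχ (hg χ h)
  have hm1 : m (H12.oneIrr G) = 1 := by
    simp [hm, D.mult_one (show 0 < 3 by norm_num), D.mult_one (show 1 < 3 by norm_num)]
  have hA1 : A (H12.oneIrr G) = 1 := by
    simp [hA, D.mult_one (show 0 < 3 by norm_num), D.mult_one (show 1 < 3 by norm_num),
      D.mult_one (show 2 < 3 by norm_num)]
  -- at most three characters occur
  have hsq : ∑ χ ∈ R, m χ ^ 2 = 3 := by
    have h := hsplit (fun χ => m χ ^ 2) (fun χ h => by simp [h])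
    have h4 : ∑ χ, m χ ^ 2 = 4 := D.diff_sq
    simp only [hm1] at h
    linarith
  have hm2 : ∀ χ ∈ R, m χ ^ 2 = 1 := by
    intro χ hχ
    have h1 : m χ ^ 2 ≤ 3 := hsq ▸ Finset.single_le_sum (fun ψ _ => sq_nonneg (m ψ)) hχ
    have h0 : m χ ≠ 0 := (Finset.mem_filter.1 hχ).2
    have : -1 ≤ m χ ∧ m χ ≤ 1 := ⟨by nlinarith, by nlinarith⟩
    rcases (show m χ = 1 ∨ m χ = -1 by omega) with h | h <;> rw [h] <;> norm_num
  have hcard : R.card = 3 := by
    rw [Finset.sum_congr rfl hm2, Finset.sum_const, nsmul_eq_mul, mul_one] at hsq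
    exact_mod_cast hsq
  -- arithmetic of a single character
  have hone : ∀ χ ∈ R, -2 ≤ A χ ∧ A χ ≤ 2 ∧ 0 < d χ ∧
      35 * A χ ^ 2 ≤ (d χ : ℤ) * (if Even (A χ) then 14 else 5) := by
    intro χ hχ
    obtain ⟨hne, h0⟩ := Finset.mem_filter.1 hχ
    have hne' : χ ≠ H12.oneIrr G := (Finset.mem_erase.1 hne).1
    have b0 := D.mult_bound (show 0 < 3 by norm_num) χ
    have b1 := D.mult_bound (show 1 < 3 by norm_num) χ
    have b2 := D.mult_bound (show 2 < 3 by norm_num) χ
    have hA2 : -2 ≤ A χ ∧ A χ ≤ 2 := by simp only [hA, hm] at *; omega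
    have hd0 : 0 < d χ := H12.irr_degree_pos χ
    -- the restriction to the subgroup
    have hres : ∀ s ∈ Finset.univ.erase (1 : S), (χ : G → ℂ) (s : G) = (A χ : ℂ) := by
      intro s hs
      rw [← hval χ h0]
      exact (H12.IsClassFunction.of_isConj (H12.irr_isClassFunction χ)
        (hconj s s.2 (fun h => (Finset.mem_erase.1 hs).1 (Subtype.ext h)))).symm
    obtain ⟨e, he⟩ := H12.IsCharacter.classInner_nat
      (H12.IsCharacter.res (H12.isCharacter_irr χ) S) (H12.isCharacter_one (G := S))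
    rw [H12.classInner_def, Finset.sum_congr rfl fun s _ => by rw [map_one, mul_one],
      inv_mul_eq_iff_eq_mul₀ (by exact_mod_cast Nat.card_pos.ne'),
      ← Finset.add_sum_erase _ _ (Finset.mem_univ (1 : S)),
      Finset.sum_congr rfl hres,
      Finset.sum_const, Finset.card_erase_of_mem (Finset.mem_univ _), Finset.card_univ,
      ← Nat.card_eq_fintype_card, hS8, OneMemClass.coe_one, H12.irr_apply_one] at he
    have hcong : (d χ : ℤ) + 7 * A χ = 8 * (e : ℤ) := by
      have : (((d χ : ℤ) + 7 * A χ : ℤ) : ℂ) = ((8 * (e : ℤ) : ℤ) : ℂ) := by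
        push_cast
        simpa [hd, nsmul_eq_mul] using he
      exact_mod_cast this
    -- the kernel is trivial
    have hfaith : (d χ : ℤ) ≠ A χ := by
      intro h
      set N := H12.charKer (χ : G → ℂ) (H12.isCharacter_irr χ) with hN
      have htN : t ∈ N := by
        rw [hN, H12.mem_charKer, hval χ h0, ← h, H12.irr_apply_one]
        simp [hd]
      have hNtop : N = ⊤ := ((H12.charKer_normal _).eq_bot_or_eq_top).resolve_left
        fun hb => D.t_ne_one (Subgroup.mem_bot.1 (hb ▸ htN))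
      have hconst : ∀ g, (χ : G → ℂ) g = (χ : G → ℂ) 1 := fun g =>
        (H12.mem_charKer (H12.isCharacter_irr χ)).1 (show g ∈ N by rw [hNtop]; exact Subgroup.mem_top g)
      have hz := H12.classInner_irr_ne hne'
      rw [H12.classInner_def, Finset.sum_congr rfl fun g _ => by rw [hconst g],
        Finset.sum_congr rfl fun g _ => by rw [H12.oneIrr_apply, map_one, mul_one],
        Finset.sum_const, nsmul_eq_mul, mul_eq_zero] at hz
      rcases hz with hz | hz
      · exact inv_ne_zero H12.card_ne_zero' hz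
      · rcases mul_eq_zero.1 hz with hz | hz
        · simp at hz
        · exact H12.irr_apply_one_ne_zero χ hz
    refine ⟨hA2.1, hA2.2, hd0, ?_⟩
    rcases (show A χ = -2 ∨ A χ = -1 ∨ A χ = 0 ∨ A χ = 1 ∨ A χ = 2 by omega) with
      h | h | h | h | h <;> rw [h] at hcong hfaith ⊢ <;> norm_num [Int.even_iff] <;> omega
  -- some value is odd
  obtain ⟨χ₀, hχ₀, hodd⟩ : ∃ χ ∈ R, ¬ Even (A χ) := by
    by_contra hno
    push Not at hno
    have hsum : ∑ χ, m χ * A χ = 0 := by
      have h : ((∑ χ, m χ * A χ : ℤ) : ℂ) = 0 := by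
        rw [← D.diff_t, D.diff_eq_sum, Int.cast_sum]
        refine Finset.sum_congr rfl fun χ _ => ?_
        by_cases h0 : m χ = 0
        · rw [show D.mult 0 χ - D.mult 1 χ = 0 from h0, h0]; simp
        · rw [hval χ h0, Int.cast_mul]
      exact_mod_cast h
    rw [hsplit _ (fun χ h => by rw [h, zero_mul]), hm1, hA1, mul_one] at hsum
    have heven : Even (∑ χ ∈ R, m χ * A χ) :=
      Finset.even_sum _ fun χ hχ => (hno χ hχ).mul_left _
    rw [Int.even_iff] at heven
    omega
  -- the structure constant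
  set f : IrrCharacter G → ℝ := fun χ => (m χ : ℝ) * (A χ : ℝ) ^ 2 / (d χ : ℝ) with hf
  have hf0 : ∑ χ, f χ = 0 := by
    have h : ((∑ χ, f χ : ℝ) : ℂ) = 0 := by
      rw [← D.structure_relation, Complex.ofReal_sum]
      refine Finset.sum_congr rfl fun χ _ => ?_
      by_cases h0 : m χ = 0
      · rw [show D.mult 0 χ - D.mult 1 χ = 0 from h0]; simp [hf, h0]
      · rw [hval χ h0, H12.irr_apply_one]
        simp only [hf, hd, hm]
        push_cast
        ring
    exact_mod_cast h
  rw [hsplit _ (fun χ h => by simp [hf, h])] at hf0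
  have hf1 : f (H12.oneIrr G) = 1 := by
    have h : ((d (H12.oneIrr G) : ℕ) : ℂ) = 1 := by
      rw [hd, ← H12.irr_apply_one, H12.oneIrr_apply]
    have h' : d (H12.oneIrr G) = 1 := by exact_mod_cast h
    simp [hf, hm1, hA1, h']
  have hb : ∀ χ ∈ R, -f χ ≤ (if Even (A χ) then 14 else 5 : ℝ) / 35 := by
    intro χ hχ
    obtain ⟨-, -, hd0, hle⟩ := hone χ hχ
    have hle' : 35 * (A χ : ℝ) ^ 2 ≤ (d χ : ℝ) * (if Even (A χ) then 14 else 5) := by
      have h := (Int.cast_le (R := ℝ)).2 hle
      simpa [apply_ite (Int.cast : ℤ → ℝ)] using h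
    have hdR : (0 : ℝ) < d χ := by exact_mod_cast hd0
    have hmR : -(m χ : ℝ) ≤ 1 := by
      have := hm2 χ hχ
      have : -(m χ) ≤ 1 := by nlinarith
      exact_mod_cast this
    rw [hf, ← neg_div, div_le_div_iff₀ hdR (by norm_num)]
    nlinarith [sq_nonneg (A χ : ℝ)]
  have hc : ∑ χ ∈ R, (if Even (A χ) then 14 else 5 : ℝ) ≤ 33 := by
    rw [← Finset.add_sum_erase _ _ hχ₀, if_neg hodd]
    have h := Finset.sum_le_card_nsmul (R.erase χ₀) (fun χ => (if Even (A χ) then 14 else 5 : ℝ)) 14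
      (fun χ _ => by split_ifs <;> norm_num)
    rw [Finset.card_erase_of_mem hχ₀, hcard] at h
    norm_num at h
    linarith
  have h := Finset.sum_le_sum hb
  rw [Finset.sum_neg_distrib, ← Finset.sum_div] at h
  rw [hf1] at hf0
  have : (33 : ℝ) / 35 < 1 := by norm_num
  linarith [div_le_div_of_nonneg_right hc (show (0 : ℝ) ≤ 35 by norm_num)]

end H5.Eight
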