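import Mathlib.GroupTheory.Transfer
import Mathlib.GroupTheory.Index
import Mathlib.GroupTheory.SpecificGroups.Cyclic
import Mathlib.GroupTheory.Sylow
import Mathlib.Analysis.Complex.Polynomial.Basic
import Mathlib.RingTheory.RootsOfUnity.AlgebraicallyClosed
import Mathlib.GroupTheory.FiniteAbelian.Duality

/-!
# Groups of order 24 with a self-centralising normal elementary abelian subgroup of order 8
-/

set_option autoImplicit false
set_option linter.style.haveILetI false

namespace H5.Eight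

universe u

/-- Two linear characters and a subgroup of order 6 around a central involution. -/
structure Frame (Q : Type u) [Group Q] (t : Q) where
  l : Q →* ℂˣ
  m : Q →* ℂˣ
  K : Subgroup Q
  l_t : l t = 1
  m_t : m t = -1
  l_pow : ∀ q, l q ^ 3 = 1
  m_pow : ∀ q, m q ^ 2 = 1
  t_mem : t ∈ K
  y : Q
  y_mem : y ∈ K
  l_y : l y ≠ 1
  cases : ∀ k ∈ K, (k ^ 3 = 1 ∧ m k = 1) ∨ (k ^ 3 = t ∧ m k = -1)
  one_cases : ∀ k ∈ K, l k = 1 → k = 1 ∨ k = t
  conj : ∀ k ∈ K, l k ≠ 1 → ∀ x : Q, x * k * x⁻¹ ∈ K → x ∈ K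
  index_eq : K.index = 4

variable {Q : Type u} [Group Q] [Finite Q]

theorem eq_one_of_pow_two_three {A : Type*} [Group A] {a : A} (h2 : a ^ 2 = 1) (h3 : a ^ 3 = 1) :
    a = 1 := by
  rw [pow_succ, h2, one_mul] at h3
  exact h3

open scoped IsMulCommutative in
theorem exists_frame (S : Subgroup Q) [S.Normal] (hcard : Nat.card S = 8)
    (hinv : ∀ s ∈ S, s * s = 1) (hidx : S.index = 3) (hC : Subgroup.centralizer (S : Set Q) ≤ S)
    {t : Q} (ht : t ∈ S) (ht1 : t ≠ 1) (htc : ∀ q : Q, q * t = t * q) :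
    Nonempty (Frame Q t) := by
  classical
  have hcomm : ∀ a ∈ S, ∀ b ∈ S, a * b = b * a := fun a ha b hb => by
    have h1 := hinv _ (S.mul_mem ha hb)
    calc a * b = (a * b)⁻¹ := eq_inv_of_mul_eq_one_left h1
      _ = b⁻¹ * a⁻¹ := mul_inv_rev a b
      _ = b * a := by
        rw [inv_eq_of_mul_eq_one_right (hinv b hb), inv_eq_of_mul_eq_one_right (hinv a ha)]
  have hQ : Nat.card Q = 24 := by rw [← S.card_mul_index, hcard, hidx]
  haveI : Fact (Nat.Prime 3) := ⟨Nat.prime_three⟩
  obtain ⟨y, hy⟩ := exists_prime_orderOf_dvd_card' (G := Q) 3 (by rw [hQ]; norm_num)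
  have hy3 : y ^ 3 = 1 := by rw [← hy]; exact pow_orderOf_eq_one y
  have hyS : y ∉ S := fun h => by
    have h2 : y ^ 2 = 1 := by rw [pow_two]; exact hinv y h
    have h1 := eq_one_of_pow_two_three h2 hy3
    rw [h1, orderOf_one] at hy
    norm_num at hy
  -- the linear character of order three
  have hcQ : Nat.card (Q ⧸ S) = 3 := by rw [← Subgroup.index_eq_card, hidx]
  haveI : IsCyclic (Q ⧸ S) := isCyclic_of_prime_card hcQ
  letI : CommGroup (Q ⧸ S) := IsCyclic.commGroup
  haveI : NeZero (Monoid.exponent (Q ⧸ S)) := ⟨Monoid.exponent_ne_zero_of_finite⟩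
  have hyq : (y : Q ⧸ S) ≠ 1 := fun h => hyS ((QuotientGroup.eq_one_iff y).1 h)
  obtain ⟨lq, hlq⟩ := CommGroup.exists_apply_ne_one_of_hasEnoughRootsOfUnity (Q ⧸ S) ℂ hyq
  set l : Q →* ℂˣ := lq.comp (QuotientGroup.mk' S) with hl
  have hly : l y ≠ 1 := hlq
  have hlS : ∀ s ∈ S, l s = 1 := fun s hs => by
    rw [hl, MonoidHom.comp_apply, QuotientGroup.mk'_apply, (QuotientGroup.eq_one_iff s).2 hs,
      map_one]
  have hl3 : ∀ q, l q ^ 3 = 1 := fun q => by
    rw [hl, MonoidHom.comp_apply, ← map_pow, ← hcQ, pow_card_eq_one', map_one]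
  -- cosets of `S`
  have hcoset : ∀ q : Q, ∃ s ∈ S, ∃ i : ℕ, i < 3 ∧ q = s * y ^ i := by
    intro q
    have hgen : (q : Q ⧸ S) ∈ Subgroup.zpowers (y : Q ⧸ S) :=
      mem_zpowers_of_prime_card hcQ hyq
    have hoy : orderOf (y : Q ⧸ S) = 3 := orderOf_eq_prime (by
      rw [← QuotientGroup.mk_pow, hy3, QuotientGroup.mk_one]) hyq
    rw [mem_zpowers_iff_mem_range_orderOf, hoy, Finset.mem_image] at hgen
    obtain ⟨i, hi, he⟩ := hgen
    refine ⟨q * (y ^ i)⁻¹, ?_, i, Finset.mem_range.1 hi, by group⟩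
    rw [← QuotientGroup.eq_one_iff, QuotientGroup.mk_mul, QuotientGroup.mk_inv,
      QuotientGroup.mk_pow, ← he]
    exact mul_inv_cancel _
  have hker : ∀ q, l q = 1 → q ∈ S := by
    intro q hq
    obtain ⟨s, hs, i, hi, rfl⟩ := hcoset q
    rw [map_mul, hlS s hs, one_mul, map_pow] at hq
    interval_cases i
    · simpa using hs
    · exact absurd (by simpa using hq) hly
    · exact absurd (eq_one_of_pow_two_three hq (hl3 y)) hly
  -- the fixed points of `y` in `S`
  set K := Subgroup.centralizer ({y} : Set Q) with hK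
  have hmemK : ∀ {q : Q}, q ∈ K ↔ q * y = y * q := fun {q} =>
    Subgroup.mem_centralizer_singleton_iff
  have hT2 : Nat.card ↥(S ⊓ K) = 2 := by
    have hd : Nat.card ↥(S ⊓ K) ∣ 2 ^ 3 := by
      rw [show (2 : ℕ) ^ 3 = 8 by norm_num, ← hcard]
      exact Subgroup.card_dvd_of_le inf_le_left
    obtain ⟨i, hi, hci⟩ := (Nat.dvd_prime_pow Nat.prime_two).1 hd
    interval_cases i
    · exfalso
      have h1 := Subgroup.eq_bot_of_card_eq _ (hci.trans (by norm_num))
      exact ht1 (Subgroup.mem_bot.1 (h1 ▸ (⟨ht, hmemK.2 (htc y).symm⟩ : t ∈ S ⊓ K)))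
    · simpa using hci
    · exfalso
      have hrel : (S ⊓ K).relIndex S = 2 := by
        have h := Subgroup.card_mul_index ((S ⊓ K).subgroupOf S)
        rw [Nat.card_congr (Subgroup.subgroupOfEquivOfLe inf_le_left).toEquiv, hci, hcard] at h
        show ((S ⊓ K).subgroupOf S).index = 2
        omega
      obtain ⟨s, hs, hsK⟩ : ∃ s ∈ S, s ∉ S ⊓ K := by
        by_contra hno
        push Not at hno
        have := Subgroup.card_dvd_of_le (fun x hx => hno x hx : S ≤ S ⊓ K)
        rw [hci, hcard] at this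
        norm_num at this
      have hs' : y * s * y⁻¹ ∈ S := ‹S.Normal›.conj_mem s hs y
      have hyK : ∀ z ∈ S ⊓ K, y * z * y⁻¹ = z := fun z hz => by
        rw [← hmemK.1 hz.2, mul_inv_cancel_right]
      have hs'K : y * s * y⁻¹ ∉ S ⊓ K := fun hmem => hsK (by
        have h := hyK _ hmem
        have h' : y * s * y⁻¹ = s := by
          calc y * s * y⁻¹ = y⁻¹ * (y * (y * s * y⁻¹) * y⁻¹) * y := by group
            _ = y⁻¹ * (y * s * y⁻¹) * y := by rw [h]
            _ = s := by group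
        rwa [h'] at hmem)
      have hu : (⟨s, hs⟩ : S) * ⟨y * s * y⁻¹, hs'⟩ ∈ (S ⊓ K).subgroupOf S :=
        (Subgroup.mul_mem_iff_of_index_two hrel).2 (by
          simp only [Subgroup.mem_subgroupOf]; exact iff_of_false hsK hs'K)
      rw [Subgroup.mem_subgroupOf] at hu
      simp only [Subgroup.coe_mul] at hu
      -- conjugating twice by `y` fixes `s`
      have h2 : y * (y * s * y⁻¹) * y⁻¹ = s := by
        have h := hyK _ hu
        rw [show y * (s * (y * s * y⁻¹)) * y⁻¹ = (y * s * y⁻¹) * (y * (y * s * y⁻¹) * y⁻¹) by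
          group, hcomm _ hs _ hs'] at h
        exact mul_left_cancel h
      apply hsK
      refine ⟨hs, hmemK.2 ?_⟩
      have h3 : y ^ 3 * s * (y ^ 3)⁻¹ = y * (y * (y * s * y⁻¹) * y⁻¹) * y⁻¹ := by
        simp only [pow_succ, pow_zero, one_mul]; group
      rw [hy3, h2] at h3
      simp only [one_mul, inv_one, mul_one] at h3
      calc s * y = (y * s * y⁻¹) * y := by rw [← h3]
        _ = y * s := by group
    · exfalso
      have hle : S ≤ K := by
        have h := Subgroup.eq_of_le_of_card_ge (inf_le_left : S ⊓ K ≤ S) (by rw [hci, hcard]; norm_num)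
        exact h ▸ inf_le_right
      exact hyS (hC (Subgroup.mem_centralizer_iff.2 fun s hs => hmemK.1 (hle hs)))
  have hT : ∀ s ∈ S ⊓ K, s = 1 ∨ s = t := by
    have htT : t ∈ S ⊓ K := ⟨ht, hmemK.2 (htc y).symm⟩
    intro s hs
    by_contra hne
    push Not at hne
    haveI := Fintype.ofFinite ↥(S ⊓ K)
    have h3 : ({1, ⟨t, htT⟩, ⟨s, hs⟩} : Finset ↥(S ⊓ K)).card = 3 := by
      rw [Finset.card_insert_of_notMem, Finset.card_pair]
      · exact fun e => hne.2 (congrArg Subtype.val e).symm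
      · simp only [Finset.mem_insert, Finset.mem_singleton, not_or]
        exact ⟨fun e => ht1 (congrArg Subtype.val e).symm,
          fun e => hne.1 (congrArg Subtype.val e).symm⟩
    have := Finset.card_le_univ ({1, ⟨t, htT⟩, ⟨s, hs⟩} : Finset ↥(S ⊓ K))
    rw [h3, ← Nat.card_eq_fintype_card, hT2] at this
    omega
  -- the linear character of order two
  haveI : IsMulCommutative S := ⟨⟨fun a b => Subtype.ext (hcomm _ a.2 _ b.2)⟩⟩
  haveI : NeZero (Monoid.exponent S) := ⟨Monoid.exponent_ne_zero_of_finite⟩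
  obtain ⟨φ, hφ⟩ := CommGroup.exists_apply_ne_one_of_hasEnoughRootsOfUnity S ℂ
    (a := ⟨t, ht⟩) (fun e => ht1 (congrArg Subtype.val e))
  have hφ2 : ∀ s, φ s ∈ rootsOfUnity 2 ℂ := fun s => by
    rw [mem_rootsOfUnity, ← map_pow, show s ^ 2 = 1 from Subtype.ext (by
      rw [pow_two]; exact hinv _ s.2), map_one]
  set m : Q →* ℂˣ := (rootsOfUnity 2 ℂ).subtype.comp
    (MonoidHom.transfer (φ.codRestrict (rootsOfUnity 2 ℂ) hφ2)) with hm
  have hm2 : ∀ q, m q ^ 2 = 1 := fun q => by
    rw [hm, MonoidHom.comp_apply]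
    exact (MonoidHom.transfer (φ.codRestrict (rootsOfUnity 2 ℂ) hφ2) q).2
  have hmy : m y = 1 := eq_one_of_pow_two_three (hm2 y) (by rw [← map_pow, hy3, map_one])
  have hmt : m t = -1 := by
    have hφt : φ ⟨t, ht⟩ = -1 := by
      have h2 := hφ2 ⟨t, ht⟩
      rw [mem_rootsOfUnity, Units.ext_iff, Units.val_pow_eq_pow_val, Units.val_one,
        sq_eq_one_iff] at h2
      rcases h2 with h | h
      · exact absurd (Units.ext h) hφ
      · exact Units.ext (by rw [h]; simp)
    rw [hm, MonoidHom.comp_apply, MonoidHom.transfer_eq_pow _ t (fun k g₀ _ => by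
      have hc : Commute g₀ (t ^ k) := (show Commute g₀ t from htc g₀).pow_right k
      rw [mul_assoc, ← hc.eq, inv_mul_cancel_left])]
    simp only [Subgroup.coe_subtype, MonoidHom.codRestrict_apply]
    have : ∀ (w : S), w = ⟨t, ht⟩ → φ w = -1 := fun w e => e ▸ hφt
    refine this _ (Subtype.ext ?_)
    show t ^ S.index = t
    rw [hidx, pow_succ, pow_two, hinv t ht, one_mul]
  -- elements of `K`
  have hKdec : ∀ k ∈ K, ∃ s, (s = 1 ∨ s = t) ∧ ∃ i : ℕ, i < 3 ∧ k = s * y ^ i := by
    intro k hk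
    obtain ⟨s, hs, i, hi, he⟩ := hcoset k
    refine ⟨s, hT s ⟨hs, ?_⟩, i, hi, he⟩
    have : s = k * (y ^ i)⁻¹ := by rw [he]; group
    rw [this]
    exact K.mul_mem hk (K.inv_mem (K.pow_mem (hmemK.2 rfl) i))
  refine ⟨{
    l := l
    m := m
    K := K
    l_t := hlS t ht
    m_t := hmt
    l_pow := hl3
    m_pow := hm2
    t_mem := hmemK.2 (htc y).symm
    y := y
    y_mem := hmemK.2 rfl
    l_y := hly
    cases := ?_
    one_cases := ?_
    conj := ?_
    index_eq := ?_ }⟩
  · intro k hk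
    obtain ⟨s, hs, i, -, rfl⟩ := hKdec k hk
    have hyi : (y ^ i) ^ 3 = 1 := by rw [← pow_mul, mul_comm, pow_mul, hy3, one_pow]
    rcases hs with hs | hs <;> rw [hs]
    · exact Or.inl ⟨by rw [one_mul, hyi], by rw [one_mul, map_pow, hmy, one_pow]⟩
    · refine Or.inr ⟨?_, by rw [map_mul, map_pow, hmy, one_pow, mul_one, hmt]⟩
      rw [(show Commute t (y ^ i) from (htc _).symm).mul_pow, hyi, mul_one, pow_succ, pow_two,
        hinv t ht, one_mul]
  · intro k hk hlk
    exact hT k ⟨hker k hlk, hk⟩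
  · intro k hk hlk x hx
    have h4 : ∀ a ∈ K, ∃ i : ℕ, i < 3 ∧ a ^ 4 = y ^ i ∧ l a = l y ^ i := by
      intro a ha
      obtain ⟨s, hs, i, hi, rfl⟩ := hKdec a ha
      have hs4 : s ^ 4 = 1 ∧ l s = 1 := by
        rcases hs with hs | hs <;> rw [hs]
        · simp
        · exact ⟨by rw [show (4 : ℕ) = 2 * 2 from rfl, pow_mul, pow_two t, hinv t ht, one_pow],
            hlS t ht⟩
      have hc : Commute s (y ^ i) := by
        rcases hs with hs | hs <;> rw [hs]
        · exact Commute.one_left _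
        · exact (htc _).symm
      refine ⟨i, hi, ?_, by rw [map_mul, hs4.2, one_mul, map_pow]⟩
      rw [hc.mul_pow, hs4.1, one_mul, ← pow_mul, show i * 4 = i + 3 * i by ring, pow_add,
        pow_mul, hy3, one_pow, mul_one]
    obtain ⟨i, hi, he, hle⟩ := h4 k hk
    obtain ⟨j, hj, he', hle'⟩ := h4 _ hx
    have hlc : l (x * k * x⁻¹) = l k := by rw [map_mul, map_mul, map_inv, mul_inv_cancel_comm]
    rw [hlc, hle] at hle'
    have hij : i = j := by
      have hord : orderOf (l y) = 3 := orderOf_eq_prime (hl3 y) hly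
      exact pow_injOn_Iio_orderOf (by simpa [hord] using hi) (by simpa [hord] using hj) hle'
    rw [conj_pow, he, ← hij] at he'
    -- `x` centralises a generator of `⟨y⟩`
    have hxi : Commute x (y ^ i) := mul_inv_eq_iff_eq_mul.1 he'
    have hi0 : i ≠ 0 := fun h => hlk (by rw [hle, h, pow_zero])
    apply hmemK.2
    have hii := hxi.pow_right i
    rwa [← pow_mul, ← Nat.mod_add_div (i * i) 3, pow_add, pow_mul, hy3, one_pow, mul_one,
      show i * i % 3 = 1 by interval_cases i <;> simp at hi0 ⊢, pow_one] at hii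
  · have hrel : S.relIndex K = 3 := by
      have hd : S.relIndex K ∣ 3 := hidx ▸ Subgroup.relIndex_dvd_index_of_normal S K
      rcases (Nat.dvd_prime Nat.prime_three).1 hd with h | h
      · exact absurd (Subgroup.relIndex_eq_one.1 h (hmemK.2 rfl)) hyS
      · exact h
    have hcK : Nat.card K = 6 := by
      have h := Subgroup.card_mul_index ((S ⊓ K).subgroupOf K)
      rw [Nat.card_congr (Subgroup.subgroupOfEquivOfLe inf_le_right).toEquiv, hT2] at h
      rw [Subgroup.inf_subgroupOf_right] at h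
      rw [← h, show (S.subgroupOf K).index = 3 from hrel]
    have h := K.card_mul_index
    rw [hcK, hQ] at h
    omega

end H5.Eight
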